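import Mathlib
import Cfsg.Agent.Lib.ClassSize.CoprimeTop
import Cfsg.Agent.Lib.ClassSize.OneSize
import Cfsg.Agent.Lib.Transfer.CentralizerCount

/-!
# A normal subgroup containing a Sylow subgroup with one nontrivial class size

`N ⊴ G` contains the Sylow `r`-subgroup `R` and all `G`-classes in `N` have size `1` or `m`.
-/

set_option autoImplicit false
set_option linter.style.haveILetI false
set_option linter.unusedSectionVars false

namespace Cfsg.Agent.ClassSize.SylowSubset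

open Subgroup Cfsg.Agent.ClassSize.CoprimeTop

section General

variable {G : Type*} [Group G] [Finite G]

/-- The order of a Sylow `r`-subgroup of `H`. -/
noncomputable def pcard (r : ℕ) (H : Subgroup G) : ℕ := r ^ (Nat.card H).factorization r

theorem card_le_pcard {r : ℕ} [hr : Fact r.Prime] {P H : Subgroup G} (hP : IsPGroup r P)
    (hPH : P ≤ H) : Nat.card P ≤ pcard r H := by
  obtain ⟨j, hj⟩ := IsPGroup.iff_card.1 hP
  rw [hj]
  refine Nat.pow_le_pow_right hr.out.pos ?_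
  exact (hr.out.pow_dvd_iff_le_factorization Nat.card_pos.ne').1 (hj ▸ card_dvd_of_le hPH)

theorem exists_pcard (r : ℕ) [hr : Fact r.Prime] (H : Subgroup G) :
    ∃ P : Subgroup G, IsPGroup r P ∧ P ≤ H ∧ Nat.card P = pcard r H := by
  obtain ⟨P⟩ := (Sylow.nonempty : Nonempty (Sylow r H))
  refine ⟨(P : Subgroup H).map H.subtype, P.2.map _, map_subtype_le _, ?_⟩
  rw [card_map_of_injective H.subtype_injective, P.card_eq_multiplicity]
  rfl

theorem isPGroup_zpowers {r k : ℕ} [Fact r.Prime] {x : G} (hx : orderOf x = r ^ k) :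
    IsPGroup r (zpowers x) :=
  IsPGroup.of_card (n := k) (by rw [Nat.card_zpowers, hx])

theorem mem_cent_mul_center {z w v : G} (hz : z ∈ center G) : v ∈ cent (z * w) ↔ v ∈ cent w := by
  have hv : v * z = z * v := mem_center_iff.1 hz v
  rw [mem_cent, mem_cent]
  constructor
  · intro h
    rw [mul_assoc, ← mul_assoc v, hv, mul_assoc] at h
    exact mul_left_cancel h
  · intro h
    rw [mul_assoc, h, ← mul_assoc, ← hv, mul_assoc]

theorem exists_orderOf_eq {r : ℕ} [hr : Fact r.Prime] {P : Subgroup G} (hP : IsPGroup r P)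
    {x : G} (hx : x ∈ P) : ∃ k, orderOf x = r ^ k := by
  obtain ⟨k, hk⟩ := hP.exists_orderOf_eq_pow ⟨x, hx⟩
  exact ⟨k, by rw [← hk, orderOf_mk]⟩

/-- An element of prime power order centralised by a Sylow subgroup lies in it. -/
theorem mem_sylow_of_le_cent {r k : ℕ} [Fact r.Prime] {x : G} (hx : orderOf x = r ^ k)
    (Q : Sylow r G) (hQ : (Q : Subgroup G) ≤ cent x) : x ∈ (Q : Subgroup G) := by
  have hn : zpowers x ≤ normalizer ((Q : Subgroup G) : Set G) := by
    rw [zpowers_le, mem_normalizer_iff]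
    intro q
    constructor
    · intro hq
      rwa [mem_cent.1 (hQ hq), mul_inv_cancel_right]
    · intro hq
      have h1 := mem_cent.1 (hQ hq)
      have h2 : x * q * x⁻¹ = q := by
        have h3 : x⁻¹ * (x * (x * q * x⁻¹)) * x = x * q := by group
        rw [h1] at h3
        have h4 : x⁻¹ * (x * q * x⁻¹ * x) * x = q * x := by group
        rw [h4] at h3
        exact mul_inv_eq_iff_eq_mul.2 h3.symm
      rwa [h2] at hq
  have h5 := Q.is_maximal' ((isPGroup_zpowers hx).to_sup_of_normal_right' Q.2 hn) le_sup_right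
  exact h5 ▸ mem_sup_left (mem_zpowers x)

theorem center_of_pow_mem {q : ℕ} {a : G} (hcop : q.Coprime (orderOf a))
    (ha : a ^ q ∈ center G) : a ∈ center G := by
  obtain ⟨e, he⟩ := exists_pow_eq_self_of_coprime hcop
  exact he ▸ pow_mem ha e

/-- A noncentral element has a noncentral power of prime power order. -/
theorem exists_primePow_notMem_center {x : G} (hx : x ∉ center G) :
    ∃ q k : ℕ, q.Prime ∧ q ∣ orderOf x ∧ ∃ a ∈ zpowers x, a ∉ center G ∧ orderOf a = q ^ k := by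
  by_contra! hall
  refine hx ?_
  have htop : (center G).subgroupOf (zpowers x) = ⊤ := by
    rw [← index_eq_one]
    by_contra hne
    obtain ⟨q, hq, hqd⟩ := Nat.exists_prime_and_dvd hne
    haveI := Fact.mk hq
    obtain ⟨P⟩ := (Sylow.nonempty : Nonempty (Sylow q (zpowers x)))
    refine P.not_dvd_index (hqd.trans (index_dvd_of_le fun a ha => ?_))
    obtain ⟨k, hk⟩ := P.2.exists_orderOf_eq_pow ⟨a, ha⟩
    rw [orderOf_mk, ← orderOf_coe] at hk
    rw [mem_subgroupOf]
    by_contra haZ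
    refine hall q k hq ?_ a a.2 haZ hk
    exact hqd.trans ((index_dvd_card _).trans (Nat.card_zpowers x).dvd)
  exact subgroupOf_eq_top.1 htop (mem_zpowers x)

section Trick

variable {V : Type*} [CommGroup V]

/-- The norm of `a` under `F`. -/
def norm (q : ℕ) (F : MulAut V) (a : V) : V := ∏ i ∈ Finset.range q, (F ^ i) a

theorem norm_fixed {q : ℕ} {F : MulAut V} (hF : F ^ q = 1) (a : V) :
    F (norm q F a) = norm q F a := by
  have h1 := Finset.prod_range_succ' (fun i => (F ^ i) a) q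
  have h2 := Finset.prod_range_succ (fun i => (F ^ i) a) q
  rw [h2, hF, pow_zero] at h1
  have h3 := mul_right_cancel h1
  rw [norm, map_prod]
  conv_rhs => rw [h3]
  exact Finset.prod_congr rfl fun i _ => by rw [pow_succ', MulAut.mul_apply]

/-- If the fixed points of `f` and of all `f ^ j * g` lie in `Z`, then so do all `q`-th powers. -/
theorem pow_mem_of_fixed {q : ℕ} (hq : q.Prime) (f g : MulAut V) (hfg : Commute f g)
    (hf : f ^ q = 1) (hg : g ^ q = 1) (Z : Subgroup V) (hff : ∀ v, f v = v → v ∈ Z)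
    (hfj : ∀ j : ℕ, ∀ v, (f ^ j * g) v = v → v ∈ Z) (a : V) : a ^ q ∈ Z := by
  classical
  have hperm : ∀ i ∈ Finset.range q, i ≠ 0 →
      (∏ j ∈ Finset.range q, ((f ^ j * g) ^ i) a) = norm q f ((g ^ i) a) := by
    intro i hi hi0
    have hco : Nat.Coprime q i := (hq.coprime_iff_not_dvd).2 fun hd =>
      absurd (Nat.le_of_dvd (Nat.pos_of_ne_zero hi0) hd) (not_le.2 (Finset.mem_range.1 hi))
    have hinj : Set.InjOn (fun j => j * i % q) (Finset.range q) := by
      intro x hx y hy hxy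
      have h1 : x ≡ y [MOD q] := Nat.ModEq.cancel_right_of_coprime hco hxy
      rw [Nat.ModEq, Nat.mod_eq_of_lt (Finset.mem_range.1 hx),
        Nat.mod_eq_of_lt (Finset.mem_range.1 hy)] at h1
      exact h1
    have himg : (Finset.range q).image (fun j => j * i % q) = Finset.range q := by
      refine Finset.eq_of_subset_of_card_le ?_ (Finset.card_image_of_injOn hinj).ge
      intro x hx
      obtain ⟨j, -, rfl⟩ := Finset.mem_image.1 hx
      exact Finset.mem_range.2 (Nat.mod_lt _ hq.pos)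
    rw [norm]
    conv_rhs => rw [← himg]
    rw [Finset.prod_image hinj]
    refine Finset.prod_congr rfl fun j _ => ?_
    rw [(hfg.pow_left j).mul_pow, ← pow_mul, MulAut.mul_apply,
      pow_eq_pow_mod (j * i) hf]
  have hS : (∏ j ∈ Finset.range q, norm q (f ^ j * g) a) ∈ Z := by
    refine prod_mem fun j _ => hfj j _ (norm_fixed ?_ a)
    rw [(hfg.pow_left j).mul_pow, hg, ← pow_mul, mul_comm, pow_mul, hf, one_pow, mul_one]
  unfold norm at hS
  rw [Finset.prod_comm, ← Finset.mul_prod_erase _ _ (Finset.mem_range.2 hq.pos)] at hS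
  simp only [pow_zero, MulAut.one_apply, Finset.prod_const, Finset.card_range] at hS
  refine (mul_mem_cancel_right ?_).1 hS
  refine prod_mem fun i hi => ?_
  obtain ⟨hi0, hiq⟩ := Finset.mem_erase.1 hi
  rw [hperm i hiq hi0]
  exact hff _ (norm_fixed hf _)

end Trick

end General

section Main

variable {G : Type*} [Group G] [Finite G] {r : ℕ} [hr : Fact r.Prime]
  {R : Sylow r G} {N : Subgroup G} [N.Normal] {m : ℕ}

/-- Hypotheses. -/
structure Hyp (R : Sylow r G) (N : Subgroup G) (m : ℕ) : Prop where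
  hRN : (R : Subgroup G) ≤ N
  sizes : ∀ x ∈ N, cl x = 1 ∨ cl x = m

/-- `x` is central in `C(x) ∩ N`, up to the centraliser. -/
def Mixed (N : Subgroup G) (x : G) : Prop := ∀ v ∈ N, v ∈ cent x → cent x ≤ cent v

theorem cl_eq (H : Hyp R N m) {x : G} (hx : x ∈ N) (hxZ : x ∉ center G) : cl x = m :=
  (H.sizes x hx).resolve_left fun h1 => hxZ (cl_eq_one.1 h1)

theorem card_cent_eq (H : Hyp R N m) {x y : G} (hx : x ∈ N) (hxZ : x ∉ center G) (hy : y ∈ N)
    (hyZ : y ∉ center G) : Nat.card (cent x) = Nat.card (cent y) := by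
  have h1 := card_mul_index (cent x)
  have h2 := card_mul_index (cent y)
  rw [show (cent x).index = m from cl_eq H hx hxZ] at h1
  rw [show (cent y).index = m from cl_eq H hy hyZ, ← h1] at h2
  exact (Nat.eq_of_mul_eq_mul_right (cl_eq H hx hxZ ▸ cl_pos x) h2).symm

theorem pcard_cent_eq (H : Hyp R N m) (q : ℕ) {x y : G} (hx : x ∈ N) (hxZ : x ∉ center G)
    (hy : y ∈ N) (hyZ : y ∉ center G) : pcard q (cent x) = pcard q (cent y) := by
  rw [pcard, pcard, card_cent_eq H hx hxZ hy hyZ]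

theorem cent_eq (H : Hyp R N m) {x y : G} (hx : x ∈ N) (hy : y ∈ N) (hle : cent x ≤ cent y)
    (hyZ : y ∉ center G) : cent x = cent y := by
  refine eq_of_le_of_cl hle ?_
  have hxZ : x ∉ center G := fun h => hyZ (by
    refine cl_eq_one.1 (Nat.dvd_one.1 ?_)
    have := cl_dvd hle
    rwa [cl_eq_one.2 h] at this)
  rw [cl_eq H hx hxZ, cl_eq H hy hyZ]

theorem le_of_coprime (H : Hyp R N m) {a y : G} (ha : a ∈ N) (haZ : a ∉ center G) (hy : y ∈ N)
    (hya : y ∈ cent a) (hco : (orderOf a).Coprime (orderOf y)) : cent a ≤ cent y := by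
  have h1 := cent_mul_coprime (mem_cent.1 hya) hco
  have h2 : cent (a * y) = cent a := cent_eq H (mul_mem ha hy) ha (h1 ▸ inf_le_left) haZ
  rw [← h2, h1]
  exact inf_le_right

theorem mem_of_rpow (H : Hyp R N m) {x : G} {k : ℕ} (hx : orderOf x = r ^ k) : x ∈ N := by
  obtain ⟨Q, hQ⟩ := (isPGroup_zpowers hx).exists_le_sylow
  obtain ⟨g, hg⟩ := MulAction.exists_smul_eq G R Q
  have hQN : (Q : Subgroup G) ≤ N := by
    rw [← hg]
    intro y hy
    rw [Sylow.coe_subgroup_smul] at hy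
    obtain ⟨z, hz, rfl⟩ := hy
    exact Normal.conj_mem ‹_› z (H.hRN hz) g
  exact hQN (hQ (mem_zpowers x))

theorem le_of_isPGroup (H : Hyp R N m) {P : Subgroup G} (hP : IsPGroup r P) : P ≤ N := fun x hx =>
  let ⟨_, hk⟩ := exists_orderOf_eq hP hx
  mem_of_rpow H hk

/-- Splitting of an element into its `r`-part and its part of order prime to `r`. -/
theorem exists_parts (x : G) : ∃ a b : G, a ∈ zpowers x ∧ b ∈ zpowers x ∧ x = a * b ∧
    (∃ k, orderOf a = r ^ k) ∧ (orderOf b).Coprime r := by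
  obtain ⟨a, b, ha, hb, hab, -, -, hp, hbr⟩ := exists_split r x
  refine ⟨a, b, ha, hb, hab, ⟨(orderOf a).primeFactorsList.length, ?_⟩, hbr⟩
  exact Nat.eq_prime_pow_of_unique_prime_dvd (orderOf_pos a).ne' fun {d} hd hdd =>
    (Nat.prime_dvd_prime_iff_eq hd hr.out).1 (hp d hd hdd)

omit [N.Normal] in
theorem coprime_rpow {a b : G} {k : ℕ} (ha : orderOf a = r ^ k) (hb : (orderOf b).Coprime r) :
    (orderOf a).Coprime (orderOf b) := ha ▸ (hb.symm.pow_left k)

/-- A noncentral element of order prime to `r` has the centraliser of an `r`-element. -/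
theorem exists_rElem (H : Hyp R N m) (hR : ¬ (R : Subgroup G) ≤ center G) {y : G} (hy : y ∈ N)
    (hyZ : y ∉ center G) (hyr : (orderOf y).Coprime r) :
    ∃ x : G, (∃ k, orderOf x = r ^ k) ∧ x ∈ N ∧ x ∉ center G ∧ x ∈ cent y ∧ cent x = cent y := by
  suffices hex : ∃ x : G, (∃ k, orderOf x = r ^ k) ∧ x ∉ center G ∧ x ∈ cent y by
    obtain ⟨x, ⟨k, hk⟩, hxZ, hxy⟩ := hex
    have hxN := mem_of_rpow H hk
    exact ⟨x, ⟨k, hk⟩, hxN, hxZ, hxy, cent_eq H hxN hy
      (le_of_coprime H hxN hxZ hy (cent_comm.1 hxy) (coprime_rpow hk hyr)) hyZ⟩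
  by_contra! hall
  obtain ⟨x, hxR, hxZ⟩ := SetLike.not_le_iff_exists.1 hR
  have hxN := H.hRN hxR
  obtain ⟨k, hk⟩ := exists_orderOf_eq R.2 hxR
  obtain ⟨P, hP, hPy, hPc⟩ := exists_pcard r (cent y)
  have hPZ : P ≤ center G := fun u hu => by
    by_contra huZ
    obtain ⟨j, hj⟩ := exists_orderOf_eq hP hu
    exact hall u ⟨j, hj⟩ huZ (hPy hu)
  have hsup : IsPGroup r (zpowers x ⊔ P : Subgroup G) := by
    have : P.Normal := ⟨fun n hn g => by
      have := mem_center_iff.1 (hPZ hn) g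
      rwa [this, mul_inv_cancel_right]⟩
    exact (isPGroup_zpowers hk).to_sup_of_normal_right hP
  have hle : zpowers x ⊔ P ≤ cent x :=
    sup_le (zpowers_le.2 (self_mem_cent x)) (hPZ.trans (center_le_cent x))
  have h1 := card_le_pcard hsup hle
  rw [pcard_cent_eq H r hxN hxZ hy hyZ, ← hPc] at h1
  have h2 := Subgroup.eq_of_le_of_card_ge (le_sup_right : P ≤ zpowers x ⊔ P) h1
  exact hxZ (hPZ (h2 ▸ mem_sup_left (mem_zpowers x)))

/-- An element with a noncentral part of each kind is central in its centraliser. -/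
theorem mixed_of_pair (H : Hyp R N m) {x y : G} {k : ℕ} (hk : orderOf x = r ^ k)
    (hxZ : x ∉ center G) (hy : y ∈ N) (hyZ : y ∉ center G) (hyr : (orderOf y).Coprime r)
    (hyx : y ∈ cent x) : cent y = cent x ∧ Mixed N x := by
  have hxN := mem_of_rpow H hk
  have hxy : cent x = cent y :=
    cent_eq H hxN hy (le_of_coprime H hxN hxZ hy hyx (coprime_rpow hk hyr)) hyZ
  refine ⟨hxy.symm, fun v hv hvx => ?_⟩
  obtain ⟨a, b, ha, hb, hab, ⟨j, hj⟩, hbr⟩ := exists_parts (r := r) v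
  have hax : a ∈ cent x := zpowers_le.2 hvx ha
  have hbx : b ∈ cent x := zpowers_le.2 hvx hb
  have e2 : cent x ≤ cent b :=
    le_of_coprime H hxN hxZ (zpowers_le.2 hv hb) hbx (coprime_rpow hk hbr)
  have e1 : cent x ≤ cent a := by
    rw [hxy] at hax ⊢
    exact le_of_coprime H hy hyZ (zpowers_le.2 hv ha) hax (coprime_rpow hj hyr).symm
  intro g hg
  rw [hab, mem_cent]
  exact ((show Commute a g from mem_cent.1 (e1 hg)).mul_left (mem_cent.1 (e2 hg))).eq

theorem mixed_of_coprime (H : Hyp R N m) (hR : ¬ (R : Subgroup G) ≤ center G) {y : G} (hy : y ∈ N)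
    (hyZ : y ∉ center G) (hyr : (orderOf y).Coprime r) : Mixed N y := by
  obtain ⟨x, ⟨k, hk⟩, hxN, hxZ, hxy, he⟩ := exists_rElem H hR hy hyZ hyr
  intro v hv hvy
  rw [← he] at hvy ⊢
  exact (mixed_of_pair H hk hxZ hy hyZ hyr (cent_comm.1 hxy)).2 v hv hvy

/-- Noncentral commuting elements, one of them mixed, have equal centralisers. -/
theorem Mixed.cent_eq' (H : Hyp R N m) {x v : G} (hM : Mixed N x) (hx : x ∈ N) (hv : v ∈ N)
    (hvx : v ∈ cent x) (hvZ : v ∉ center G) : cent x = cent v :=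
  cent_eq H hx hv (hM v hv hvx) hvZ

theorem Mixed.comm {x a b : G} (hM : Mixed N x) (ha : a ∈ N) (hax : a ∈ cent x)
    (hbx : b ∈ cent x) : a * b = b * a :=
  mem_cent.1 (hM a ha hax hbx)

/-- A noncentral `w` centralised by `R` in `R` makes `N` abelian. -/
theorem isNilpotent_of_mem_center_sylow (H : Hyp R N m) {w : G} (hwR : w ∈ (R : Subgroup G))
    (hwc : (R : Subgroup G) ≤ cent w) (hwZ : w ∉ center G) : Group.IsNilpotent N := by
  have hwN := H.hRN hwR
  have hrm : ∀ x ∈ N, ¬ r ∣ cl x := by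
    intro x hx hd
    rcases H.sizes x hx with h1 | h1
    · exact hr.out.not_dvd_one (h1 ▸ hd)
    · rw [h1, ← cl_eq H hwN hwZ] at hd
      exact R.not_dvd_index (hd.trans (index_dvd_of_le hwc))
  have hFr := Sylow.normalizer_sup_eq_top' R H.hRN
  set C := centralizer ((R : Subgroup G) : Set G) with hC
  have hNC : N ≤ C := by
    rw [← subgroupOf_eq_top]
    refine OneSize.eq_top_of_forall_conj fun x => ?_
    obtain ⟨Q, hQ⟩ := Transfer.exists_sylow_le_centralizer (p := r) (x : G) (hrm x x.2)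
    obtain ⟨g, hg⟩ := MulAction.exists_smul_eq G R Q
    have hgm : g ∈ normalizer ((R : Subgroup G) : Set G) ⊔ N := hFr.symm ▸ mem_top g
    rw [sup_comm, ← SetLike.mem_coe, normal_mul] at hgm
    obtain ⟨n, hn, t, ht, rfl⟩ := hgm
    refine ⟨⟨n, hn⟩, ?_⟩
    rw [mem_subgroupOf, hC, mem_centralizer_iff]
    intro u hu
    have hu' : t⁻¹ * u * t ∈ (R : Subgroup G) := (mem_normalizer_iff''.1 ht u).1 hu
    have h2 : n * u * n⁻¹ ∈ (Q : Subgroup G) := by
      rw [← hg, Sylow.coe_subgroup_smul]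
      refine ⟨t⁻¹ * u * t, hu', ?_⟩
      show (n * t) * (t⁻¹ * u * t) * (n * t)⁻¹ = n * u * n⁻¹
      group
    have h3 : (x : G) * (n * u * n⁻¹) = n * u * n⁻¹ * x :=
      (mem_centralizer_singleton_iff.1 (hQ h2)).symm
    show u * (n⁻¹ * (x : G) * n) = n⁻¹ * x * n * u
    calc u * (n⁻¹ * (x : G) * n) = n⁻¹ * ((n * u * n⁻¹) * x) * n := by group
      _ = n⁻¹ * ((x : G) * (n * u * n⁻¹)) * n := by rw [h3]
      _ = n⁻¹ * x * n * u := by group
  have hNw : N ≤ cent w := fun v hv => mem_cent.2 (mem_centralizer_iff.1 (hNC hv) w hwR)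
  have hab : ∀ u ∈ N, ∀ v ∈ N, u * v = v * u := by
    intro u hu v hv
    obtain ⟨a, b, ha, hb, hab, ⟨j, hj⟩, hbr⟩ := exists_parts (r := r) u
    obtain ⟨k, hk⟩ := exists_orderOf_eq R.2 hwR
    have hbN : b ∈ N := zpowers_le.2 hu hb
    have haN : a ∈ N := zpowers_le.2 hu ha
    have h1 : b * v = v * b :=
      mem_cent.1 (le_of_coprime H hwN hwZ hbN (hNw hbN) (coprime_rpow hk hbr) (hNw hv))
    have h2 : a ∈ (R : Subgroup G) := mem_sylow_of_le_cent hj R fun q hq =>
      mem_cent.2 (mem_centralizer_iff.1 (hNC haN) q hq).symm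
    have h3 : a * v = v * a := mem_centralizer_iff.1 (hNC hv) a h2
    rw [hab]
    exact ((show Commute a v from h3).mul_left h1).eq
  exact Subgroup.isNilpotent_of_ker_le_center (1 : N →* Unit) (fun x _ => mem_center_iff.2 fun g =>
    Subtype.ext (hab g g.2 x x.2))

/-- If the elements of order prime to `r` are central, `N` is nilpotent. -/
theorem isNilpotent_of_coprime_central
    (h : ∀ y ∈ N, (orderOf y).Coprime r → y ∈ center G) : Group.IsNilpotent N := by
  refine Group.of_quotient_center_nilpotent ?_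
  have : IsPGroup r (N ⧸ center N) := by
    intro q
    obtain ⟨x, rfl⟩ := QuotientGroup.mk'_surjective _ q
    obtain ⟨a, b, ha, hb, hab, ⟨k, hk⟩, hbr⟩ := exists_parts (r := r) (x : G)
    refine ⟨k, ?_⟩
    rw [← map_pow]
    refine (QuotientGroup.eq_one_iff _).2 (mem_center_iff.2 fun g => Subtype.ext ?_)
    have hbZ : b ∈ center G := h b (zpowers_le.2 x.2 hb) hbr
    have hxk : (x : G) ^ r ^ k = b ^ r ^ k := by
      rw [hab, (show Commute a b from mem_center_iff.1 hbZ a).mul_pow, ← hk, pow_orderOf_eq_one,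
        one_mul]
    show (g : G) * ((x ^ r ^ k : N) : G) = (x ^ r ^ k : N) * g
    rw [SubgroupClass.coe_pow, hxk]
    exact mem_center_iff.1 (pow_mem hbZ _) g
  exact this.isNilpotent

/-- A Sylow subgroup does not centralise a noncentral element of prime power order. -/
theorem not_sylow_le
    (hZR : ∀ w ∈ (R : Subgroup G), (R : Subgroup G) ≤ cent w → w ∈ center G) {x : G} {k : ℕ}
    (hk : orderOf x = r ^ k) (hxZ : x ∉ center G) (Q : Sylow r G) :
    ¬ (Q : Subgroup G) ≤ cent x := by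
  intro hQ
  have hxQ := mem_sylow_of_le_cent hk Q hQ
  obtain ⟨g, hg⟩ := MulAction.exists_smul_eq G R Q
  rw [← hg, Sylow.coe_subgroup_smul] at hxQ hQ
  obtain ⟨w, hw, hwx⟩ := hxQ
  replace hwx : g * w * g⁻¹ = x := hwx
  have hwZ : w ∈ center G := hZR w hw fun u hu => by
    have h1 := mem_cent.1 (hQ ⟨u, hu, rfl⟩ : g * u * g⁻¹ ∈ cent x)
    rw [← hwx] at h1
    rw [mem_cent]
    calc w * u = g⁻¹ * ((g * w * g⁻¹) * (g * u * g⁻¹)) * g := by group
      _ = g⁻¹ * ((g * u * g⁻¹) * (g * w * g⁻¹)) * g := by rw [h1]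
      _ = u * w := by group
  refine hxZ ?_
  rw [← hwx, mem_center_iff.1 hwZ g, mul_inv_cancel_right]
  exact hwZ

/-- The bound on a subgroup moving a mixed element by central factors. -/
theorem card_le_mul_card_inf (H : Hyp R N m) {q : ℕ} (hq : q.Prime) {w : G} (hM : Mixed N w)
    (hw : w ∈ N) (S : Subgroup G) (hS : ∀ s ∈ S, s * w * s⁻¹ * w⁻¹ ∈ center G)
    (hwq : w ^ q ∈ center G) {a : G} (ha : a ∈ N) (haw : a ∈ cent w) (haZ : a ∉ center G)
    (haq : q.Coprime (orderOf a)) :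
    Nat.card S ≤ q * Nat.card (S ⊓ cent w : Subgroup G) := by
  classical
  by_cases hle : S ≤ cent w
  · rw [inf_eq_left.2 hle]
    exact Nat.le_mul_of_pos_left _ hq.pos
  obtain ⟨s0, hs0, hs0w⟩ := SetLike.not_le_iff_exists.1 hle
  set δ : G → G := fun s => s * w * s⁻¹ * w⁻¹ with hδ
  have hconj : ∀ s ∈ S, s * w * s⁻¹ = δ s * w := fun s _ => by simp [hδ]
  have hcw : ∀ s ∈ S, ∀ v : G, v ∈ cent (s * w * s⁻¹) ↔ v ∈ cent w := by
    intro s hs v
    rw [hconj s hs]
    exact mem_cent_mul_center (hS s hs)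
  set K : Subgroup G := cent w ⊓ N with hKdef
  have hnK : S ≤ normalizer (K : Set G) := by
    intro s hs
    rw [mem_normalizer_iff]
    intro v
    rw [hKdef, mem_inf, mem_inf, ← hcw s hs (s * v * s⁻¹), cent_conj_mem]
    have e : s⁻¹ * (s * v * s⁻¹) * s = v := by group
    rw [e]
    refine and_congr_right fun _ => ⟨fun hv => Normal.conj_mem ‹_› v hv s, fun hv => ?_⟩
    have := Normal.conj_mem ‹_› _ hv s⁻¹
    rw [inv_inv] at this
    rwa [e] at this
  letI hcomm : CommGroup K :=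
    { (inferInstance : Group K) with
      mul_comm := fun u v => Subtype.ext
        (hM.comm (mem_inf.1 u.2).2 (mem_inf.1 u.2).1 (mem_inf.1 v.2).1) }
  let φ : S →* MulAut K := K.normalizerMonoidHom.comp (Subgroup.inclusion hnK)
  have hval : ∀ (s : S) (v : K), ((φ s v : K) : G) = (s : G) * v * (s : G)⁻¹ := fun _ _ => rfl
  have hker : ∀ s : S, (s : G) ∈ cent w → φ s = 1 := by
    intro s hs
    ext v
    rw [hval, MulAut.one_apply, ← mem_cent.1 (hM v (mem_inf.1 v.2).2 (mem_inf.1 v.2).1 hs),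
      mul_inv_cancel_right]
  have hδmul : ∀ s ∈ S, ∀ t ∈ S, δ (s * t) = δ s * δ t := by
    intro s hs t ht
    show s * t * w * (s * t)⁻¹ * w⁻¹ = δ s * δ t
    calc s * t * w * (s * t)⁻¹ * w⁻¹ = s * (t * w * t⁻¹) * s⁻¹ * w⁻¹ := by group
      _ = s * (δ t * w) * s⁻¹ * w⁻¹ := by rw [hconj t ht]
      _ = (s * δ t) * w * s⁻¹ * w⁻¹ := by group
      _ = (δ t * s) * w * s⁻¹ * w⁻¹ := by rw [mem_center_iff.1 (hS t ht) s]
      _ = δ t * (s * w * s⁻¹) * w⁻¹ := by group
      _ = δ t * δ s := by rw [hconj s hs]; group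
      _ = δ s * δ t := (mem_center_iff.1 (hS t ht) (δ s)).symm
  let Δ : S →* center G :=
    MonoidHom.mk' (fun s => ⟨δ s, hS s s.2⟩) fun s t => Subtype.ext (hδmul s s.2 t t.2)
  have hΔ : ∀ s : S, (s : G) ∈ cent w ↔ Δ s = 1 := by
    intro s
    rw [Subtype.ext_iff, mem_cent]
    show _ ↔ (s : G) * w * (s : G)⁻¹ * w⁻¹ = 1
    rw [mul_inv_eq_one, mul_inv_eq_iff_eq_mul, eq_comm]
  have hΔq : ∀ s : S, Δ s ^ q = 1 := by
    intro s
    refine Subtype.ext ?_
    show δ s ^ q = 1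
    have hz : Commute (δ s) w := (mem_center_iff.1 (hS s s.2) w).symm
    have h1 : ((s : G) * w * (s : G)⁻¹) ^ q = w ^ q := by
      rw [conj_pow, mem_center_iff.1 hwq s, mul_inv_cancel_right]
    rwa [hconj s s.2, hz.mul_pow, mul_eq_right] at h1
  set f : MulAut K := φ ⟨s0, hs0⟩ with hf
  have hcover : ∀ t : S, ∃ j < q, (s0 ^ j * t : G) ∈ cent w := by
    intro t
    by_contra! hno
    refine haZ (center_of_pow_mem haq ?_)
    have hfix : ∀ u : S, (u : G) ∉ cent w → ∀ v : K, φ u v = v →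
        v ∈ (center G).subgroupOf K := by
      intro u hu v hv
      rw [mem_subgroupOf]
      by_contra hvZ
      refine hu ?_
      rw [hM.cent_eq' H hw (mem_inf.1 v.2).2 (mem_inf.1 v.2).1 hvZ, mem_cent]
      have hv' : (u : G) * v * (u : G)⁻¹ = v := by rw [← hval, hv]
      exact (mul_inv_eq_iff_eq_mul.1 hv').symm
    have hcom : Commute f (φ t) := by
      rw [hf, Commute, SemiconjBy, ← map_mul, ← map_mul, ← mul_inv_eq_one, ← map_inv, ← map_mul]
      refine hker _ ((hΔ _).2 ?_)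
      rw [map_mul, map_inv, map_mul, map_mul,
        show Δ t * Δ ⟨s0, hs0⟩ = Δ ⟨s0, hs0⟩ * Δ t from
          Subtype.ext (mem_center_iff.1 (Δ ⟨s0, hs0⟩).2 (Δ t : G)), mul_inv_cancel]
    have hpowq : ∀ u : S, φ u ^ q = 1 := fun u => by
      rw [← map_pow]
      exact hker _ ((hΔ _).2 (by rw [map_pow, hΔq]))
    have hmain := pow_mem_of_fixed hq f (φ t) hcom (hpowq _) (hpowq _) ((center G).subgroupOf K)
      (hfix _ hs0w) ?_ ⟨a, mem_inf.2 ⟨haw, ha⟩⟩
    · exact hmain
    · intro j v hv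
      obtain ⟨i, hiq, hij⟩ : ∃ i < q, φ (⟨s0, hs0⟩ ^ j) = φ (⟨s0, hs0⟩ ^ i) :=
        ⟨j % q, Nat.mod_lt _ hq.pos, by
          rw [map_pow, map_pow, ← hf]; exact pow_eq_pow_mod j (hpowq _)⟩
      refine hfix (⟨s0, hs0⟩ ^ i * t) (hno i hiq) v ?_
      rwa [map_mul, ← hij, map_pow]
  have hsurj : ∀ t : S, ∃ p : Fin q × (S ⊓ cent w : Subgroup G),
      (s0 ^ (p.1 : ℕ))⁻¹ * (p.2 : G) = t := by
    intro t
    obtain ⟨j, hj, hjt⟩ := hcover t
    exact ⟨⟨⟨j, hj⟩, ⟨s0 ^ j * t, mem_inf.2 ⟨mul_mem (pow_mem hs0 _) t.2, hjt⟩⟩⟩,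
      inv_mul_cancel_left _ _⟩
  choose F hF using hsurj
  have hFinj : Function.Injective F := fun u v huv => Subtype.ext (by rw [← hF u, huv, hF v])
  have h1 := Nat.card_le_card_of_injective F hFinj
  rwa [Nat.card_prod, Nat.card_fin] at h1

end Main

end Cfsg.Agent.ClassSize.SylowSubset
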