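import Mathlib
import Cfsg.Agent.Lib.ClassSize.SylowSubset.Basic
import Cfsg.Agent.Lib.PGroup.Basic

/-!
# Every noncentral element is central in its centraliser
-/

set_option autoImplicit false
set_option linter.style.haveILetI false
set_option linter.unusedSectionVars false

namespace Cfsg.Agent.ClassSize.SylowSubset

open Subgroup Cfsg.Agent.ClassSize.CoprimeTop

variable {G : Type*} [Group G] [Finite G] {r : ℕ} [hr : Fact r.Prime]
  {R : Sylow r G} {N : Subgroup G} [N.Normal] {m : ℕ}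

/-- A noncentral element of a Sylow subgroup yields one moved only by central factors. -/
theorem exists_step {q : ℕ} [hq : Fact q.Prime] (S : Sylow q G) {y : G}
    (hyS : y ∈ (S : Subgroup G)) (hyN : y ∈ N) (hyZ : y ∉ center G) :
    ∃ w ∈ (S : Subgroup G), w ∈ N ∧ w ∉ center G ∧ w ^ q ∈ center G ∧
      ∀ s ∈ (S : Subgroup G), s * w * s⁻¹ * w⁻¹ ∈ center G := by
  let Z : Subgroup S := (center G).subgroupOf (S : Subgroup G)
  have hQ : IsPGroup q (↥(S : Subgroup G) ⧸ Z) := S.2.to_quotient Z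
  let T : Subgroup (↥(S : Subgroup G) ⧸ Z) :=
    (N.subgroupOf (S : Subgroup G)).map (QuotientGroup.mk' Z)
  haveI : T.Normal := Normal.map inferInstance _ (QuotientGroup.mk'_surjective Z)
  have hT : T ≠ ⊥ := by
    intro h
    refine hyZ ?_
    have h1 : QuotientGroup.mk' Z ⟨y, hyS⟩ ∈ T := mem_map_of_mem _ hyN
    rw [h, mem_bot] at h1
    exact mem_subgroupOf.1 ((QuotientGroup.eq_one_iff (N := Z) _).1 h1)
  have hne := PGroup.inf_center_ne_bot hQ T hT
  have hd : q ∣ Nat.card (T ⊓ center (↥(S : Subgroup G) ⧸ Z) : Subgroup _) := by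
    obtain ⟨j, hj⟩ := IsPGroup.iff_card.1 (hQ.to_subgroup (T ⊓ center _))
    rcases j with _ | j
    · exact absurd (card_eq_one.1 (by simpa using hj)) hne
    · rw [hj]; exact dvd_pow_self q j.succ_ne_zero
  obtain ⟨⟨c, hc⟩, hco⟩ := exists_prime_orderOf_dvd_card' q hd
  rw [orderOf_mk] at hco
  obtain ⟨⟨w, hwN, hwc⟩, hcen⟩ := hc
  refine ⟨w, w.2, hwN, fun hwZ => ?_, ?_, fun s hs => ?_⟩
  · refine hq.out.ne_one ?_
    rw [← hco, orderOf_eq_one_iff, ← hwc]
    exact (QuotientGroup.eq_one_iff _).2 hwZ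
  · have h1 : c ^ q = 1 := orderOf_dvd_iff_pow_eq_one.1 hco.dvd
    rw [← hwc, ← map_pow] at h1
    have h2 := (QuotientGroup.eq_one_iff _).1 h1
    rwa [mem_subgroupOf, SubgroupClass.coe_pow] at h2
  · have h1 : QuotientGroup.mk' Z ((⟨s, hs⟩ : S) * w * (⟨s, hs⟩ : S)⁻¹ * w⁻¹) = 1 := by
      rw [map_mul, map_mul, map_mul, map_inv, map_inv, hwc,
        (mem_center_iff.1 hcen _ : _ * c = c * _)]
      group
    exact mem_subgroupOf.1 ((QuotientGroup.eq_one_iff (N := Z) _).1 h1)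

/-- A `q`-subgroup of a normal subgroup is no larger than the trace of a Sylow subgroup. -/
theorem card_le_inf {q : ℕ} [Fact q.Prime] (S : Sylow q G) {P : Subgroup G} (hP : IsPGroup q P)
    (hPN : P ≤ N) : Nat.card P ≤ Nat.card ((S : Subgroup G) ⊓ N : Subgroup G) := by
  obtain ⟨Q, hQ⟩ := hP.exists_le_sylow
  obtain ⟨g, hg⟩ := MulAction.exists_smul_eq G Q S
  refine le_of_eq_of_le (card_map_of_injective (MulAut.conj g).injective).symm
    (Subgroup.card_le_of_le (?_ : P.map (MulAut.conj g).toMonoidHom ≤ _))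
  rintro _ ⟨x, hx, rfl⟩
  refine mem_inf.2 ⟨?_, Normal.conj_mem ‹_› x (hPN hx) g⟩
  rw [← hg, Sylow.coe_subgroup_smul]
  exact ⟨x, hQ hx, rfl⟩

theorem conj_iter {w l c : G} (hc : c ∈ center G) (h : l * w * l⁻¹ = c * w) (n : ℕ) :
    l ^ n * w * (l ^ n)⁻¹ = c ^ n * w := by
  induction n with
  | zero => simp
  | succ n ih =>
    calc l ^ (n + 1) * w * (l ^ (n + 1))⁻¹ = l * (l ^ n * w * (l ^ n)⁻¹) * l⁻¹ := by
          rw [pow_succ']; group
      _ = l * (c ^ n * w) * l⁻¹ := by rw [ih]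
      _ = c ^ n * (l * w * l⁻¹) := by
          rw [← mul_assoc, (mem_center_iff.1 (pow_mem hc n) l)]; group
      _ = c ^ (n + 1) * w := by rw [h, pow_succ]; group

theorem mem_normalizer_of_comm {T : Subgroup G} {u : G} (h : ∀ v ∈ T, u * v = v * u) :
    u ∈ normalizer (T : Set G) := by
  refine mem_normalizer_iff.2 fun v => ⟨fun hv => ?_, fun hv => ?_⟩
  · rwa [h v hv, mul_inv_cancel_right]
  · have h1 := h _ hv
    have h2 : v = u * v * u⁻¹ := by
      calc v = u⁻¹ * (u * v * u⁻¹ * u) := by group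
        _ = u⁻¹ * (u * (u * v * u⁻¹)) := by rw [h1]
        _ = u * v * u⁻¹ := inv_mul_cancel_left _ _
    exact h2 ▸ hv

/-- A noncentral `r`-element centralising only central elements of `r'`-order in `N`, beside a
noncentral element of order `q ^ b` in `N`: impossible. -/
theorem no_pure (H : Hyp R N m) (hR : ¬ (R : Subgroup G) ≤ center G)
    (hZR : ∀ w ∈ (R : Subgroup G), (R : Subgroup G) ≤ cent w → w ∈ center G)
    {g : G} {k : ℕ} (hk : orderOf g = r ^ k) (hgZ : g ∉ center G)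
    (hg : ∀ v ∈ N, v ∈ cent g → (orderOf v).Coprime r → v ∈ center G)
    {q b : ℕ} [hq : Fact q.Prime] (hqr : q ≠ r) {y : G} (hy : orderOf y = q ^ b) (hyN : y ∈ N)
    (hyZ : y ∉ center G) : False := by
  have hqc : q.Coprime r := (Nat.coprime_primes hq.out hr.out).2 hqr
  have hgN : g ∈ N := mem_of_rpow H hk
  obtain ⟨S, hS⟩ := (isPGroup_zpowers hy).exists_le_sylow
  obtain ⟨w, hwS, hwN, hwZ, hwq, hstep⟩ := exists_step S (hS (mem_zpowers y)) hyN hyZ
  obtain ⟨d, hd⟩ := exists_orderOf_eq S.2 hwS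
  have hwr : (orderOf w).Coprime r := hd ▸ hqc.pow_left d
  have hM : Mixed N w := mixed_of_coprime H hR hwN hwZ hwr
  obtain ⟨x, ⟨e, he⟩, hxN, hxZ, hxw, hcx⟩ := exists_rElem H hR hwN hwZ hwr
  set C : Subgroup G := cent w with hC
  obtain ⟨P, hP, hPg, hPc⟩ := exists_pcard q (cent g)
  rw [pcard_cent_eq H q hgN hgZ hwN hwZ] at hPc
  have hPS : Nat.card ((S : Subgroup G) ⊓ C : Subgroup G) ≤ Nat.card P :=
    hPc ▸ card_le_pcard (S.2.to_le inf_le_left) inf_le_right
  obtain ⟨S', hS'⟩ := hP.exists_le_sylow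
  obtain ⟨t, ht⟩ := MulAction.exists_smul_eq G S S'
  have hcardS : Nat.card (S' : Subgroup G) = Nat.card (S : Subgroup G) := by
    rw [S.card_eq_multiplicity, S'.card_eq_multiplicity]
  have htS' : ∀ u ∈ (S : Subgroup G), t * u * t⁻¹ ∈ (S' : Subgroup G) := fun u hu => by
    rw [← ht, Sylow.coe_subgroup_smul]
    exact ⟨u, hu, rfl⟩
  set T : Subgroup G := (S : Subgroup G) ⊓ N with hT
  set T' : Subgroup G := (S' : Subgroup G) ⊓ N with hT'
  have hPT' : T' ⊓ P ≤ T ⊓ center G := by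
    intro u hu
    obtain ⟨⟨huS, huN⟩, huP⟩ := hu
    obtain ⟨i, hi⟩ := exists_orderOf_eq hP huP
    have huZ : u ∈ center G := hg u huN (hPg huP) (hi ▸ hqc.pow_left i)
    refine mem_inf.2 ⟨mem_inf.2 ⟨?_, huN⟩, huZ⟩
    rw [← ht, Sylow.coe_subgroup_smul] at huS
    obtain ⟨v, hv, hvu⟩ := huS
    replace hvu : t * v * t⁻¹ = u := hvu
    suffices v = u from this ▸ hv
    calc v = t⁻¹ * (t * v * t⁻¹) * t := by group
      _ = t⁻¹ * (u * t) := by rw [hvu, mul_assoc]
      _ = t⁻¹ * (t * u) := by rw [mem_center_iff.1 huZ t]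
      _ = u := inv_mul_cancel_left _ _
  by_cases hSw : (S : Subgroup G) ≤ C
  · rw [inf_eq_left.2 hSw] at hPS
    have hPeq : P = S' := Subgroup.eq_of_le_of_card_ge hS' (hcardS ▸ hPS)
    have h1 : t * w * t⁻¹ ∈ N := Normal.conj_mem ‹_› w hwN t
    have h2 : t * w * t⁻¹ ∈ center G := by
      refine hg _ h1 (hPg (hPeq ▸ htS' w hwS)) ?_
      rwa [← MulAut.conj_apply, MulEquiv.orderOf_eq]
    refine hwZ ?_
    rw [show w = t * w * t⁻¹ from ?_]
    · exact h2
    calc w = t⁻¹ * ((t * w * t⁻¹) * t) := by group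
      _ = t⁻¹ * (t * (t * w * t⁻¹)) := by rw [mem_center_iff.1 h2 t]
      _ = t * w * t⁻¹ := inv_mul_cancel_left _ _
  have hbound := card_le_mul_card_inf H hq.out hM hwN (S : Subgroup G) hstep hwq hxN hxw hxZ
    (he ▸ hqc.pow_right e)
  -- `T` has order at most `q` modulo the centre
  have hTT' : Nat.card T ≤ Nat.card T' :=
    card_le_inf S' (S.2.to_le inf_le_left) inf_le_right
  have hTq : Nat.card T ≤ q * Nat.card (T ⊓ center G : Subgroup G) := by
    have h1 := Subgroup.relIndex_mul_relIndex (⊥ : Subgroup G) (T' ⊓ P) T' bot_le inf_le_left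
    rw [relIndex_bot_left, relIndex_bot_left, inf_relIndex_left] at h1
    have h2 := Subgroup.relIndex_mul_relIndex (⊥ : Subgroup G) P (S' : Subgroup G) bot_le hS'
    rw [relIndex_bot_left, relIndex_bot_left, hcardS] at h2
    have h3 : P.relIndex T' ≤ P.relIndex (S' : Subgroup G) :=
      relIndex_le_of_le_right inf_le_left (by rw [relIndex]; exact index_ne_zero_of_finite)
    have h4 : P.relIndex (S' : Subgroup G) ≤ q := by
      refine Nat.le_of_mul_le_mul_left
        (?_ : Nat.card P * P.relIndex (S' : Subgroup G) ≤ Nat.card P * q) Nat.card_pos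
      rw [h2]
      calc Nat.card (S : Subgroup G) ≤ q * Nat.card ((S : Subgroup G) ⊓ C : Subgroup G) := hbound
        _ ≤ q * Nat.card P := Nat.mul_le_mul_left q hPS
        _ = Nat.card P * q := mul_comm _ _
    calc Nat.card T ≤ Nat.card T' := hTT'
      _ = Nat.card (T' ⊓ P : Subgroup G) * P.relIndex T' := h1.symm
      _ ≤ Nat.card (T ⊓ center G : Subgroup G) * q :=
          Nat.mul_le_mul (Subgroup.card_le_of_le hPT') (h3.trans h4)
      _ = q * Nat.card (T ⊓ center G : Subgroup G) := mul_comm _ _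
  set W : Subgroup G := T ⊓ center G ⊔ zpowers w with hW
  have hWT : W ≤ T := sup_le inf_le_left (zpowers_le.2 (mem_inf.2 ⟨hwS, hwN⟩))
  have hWeq : W = T := by
    refine Subgroup.eq_of_le_of_card_ge hWT (hTq.trans ?_)
    have h1 := Subgroup.relIndex_mul_relIndex (⊥ : Subgroup G) (T ⊓ center G) W bot_le le_sup_left
    rw [relIndex_bot_left, relIndex_bot_left] at h1
    obtain ⟨j, hj⟩ := IsPGroup.iff_card.1 (S.2.to_le (hWT.trans inf_le_left))
    obtain ⟨i, hi, hij⟩ := (Nat.dvd_prime_pow hq.out).1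
      (hj ▸ Dvd.intro_left _ h1 : (T ⊓ center G).relIndex W ∣ q ^ j)
    rcases i with _ | i
    · rw [pow_zero] at hij
      exact absurd ((relIndex_eq_one.1 hij) (mem_sup_right (mem_zpowers w))).2 hwZ
    · rw [← h1, hij, mul_comm]
      exact Nat.mul_le_mul_left _ (Nat.le_self_pow i.succ_ne_zero q)
  have hTform : ∀ u ∈ T, ∃ c ∈ center G, ∃ i : ℤ, u = c * w ^ i := by
    intro u hu
    rw [← hWeq, hW] at hu
    have hn : zpowers w ≤ normalizer ((T ⊓ center G : Subgroup G) : Set G) := by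
      refine zpowers_le.2 (mem_normalizer_iff.2 fun v => ?_)
      constructor
      · intro hv
        rwa [mem_center_iff.1 hv.2 w, mul_inv_cancel_right]
      · intro hv
        have h5 : v = w * v * w⁻¹ := by
          have h6 := mem_center_iff.1 hv.2 w⁻¹
          calc v = w⁻¹ * (w * v * w⁻¹) * w := by group
            _ = w * v * w⁻¹ := by rw [h6, inv_mul_cancel_right]
        exact h5 ▸ hv
    rw [← SetLike.mem_coe, coe_mul_of_right_le_normalizer_left _ _ hn] at hu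
    obtain ⟨c, hc, v, hv, rfl⟩ := hu
    obtain ⟨i, rfl⟩ := mem_zpowers_iff.1 hv
    exact ⟨c, hc.2, i, rfl⟩
  have hTC : T ≤ C := by
    rw [← hWeq]
    exact sup_le (inf_le_right.trans (center_le_cent w)) (zpowers_le.2 (self_mem_cent w))
  have hTmem : ∀ {u : G}, u ∈ N → (∃ i, orderOf u = q ^ i) →
      zpowers u ≤ normalizer (T : Set G) → u ∈ T := by
    intro u hu ⟨i, hi⟩ hn
    have hsup : IsPGroup q (zpowers u ⊔ T : Subgroup G) :=
      (isPGroup_zpowers hi).to_sup_of_normal_right' (S.2.to_le inf_le_left) hn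
    have h1 := card_le_inf S hsup (sup_le (zpowers_le.2 hu) inf_le_right)
    have h2 := Subgroup.eq_of_le_of_card_ge (le_sup_right : T ≤ zpowers u ⊔ T) h1
    exact h2 ▸ mem_sup_left (mem_zpowers u)
  -- an `r`-element acting nontrivially on `T`
  obtain ⟨Pr, hPr, hPrC, hPrc⟩ := exists_pcard r C
  have hPrN : Pr ≤ N := le_of_isPGroup H hPr
  have hxPr : x ∈ Pr := by
    have hn : zpowers x ≤ normalizer (Pr : Set G) := by
      exact zpowers_le.2 (mem_normalizer_of_comm fun u hu => (hM.comm (hPrN hu) (hPrC hu) hxw).symm)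
    have h1 := card_le_pcard ((isPGroup_zpowers he).to_sup_of_normal_right' hPr hn)
      (sup_le (zpowers_le.2 hxw) hPrC)
    have h2 := Subgroup.eq_of_le_of_card_ge (le_sup_right : Pr ≤ zpowers x ⊔ Pr)
      (hPrc.symm ▸ h1)
    exact h2 ▸ mem_sup_left (mem_zpowers x)
  obtain ⟨Qr, hQr⟩ := hPr.exists_le_sylow
  have hlt : Pr.subgroupOf (Qr : Subgroup G) < ⊤ := by
    refine lt_top_iff_ne_top.2 fun htop => not_sylow_le hZR he hxZ Qr ?_
    rw [hcx]
    exact (subgroupOf_eq_top.1 htop).trans hPrC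
  haveI : Group.IsNilpotent (Qr : Subgroup G) := Qr.2.isNilpotent
  obtain ⟨⟨l, hlQ⟩, hlN', hlP⟩ :=
    SetLike.exists_of_lt (Group.normalizerCondition_of_isNilpotent _ hlt)
  have hln : l ∈ normalizer (Pr : Set G) := by
    refine mem_normalizer_iff.2 fun u => ⟨fun hu => ?_, fun hu => ?_⟩
    · exact (mem_normalizer_iff.1 hlN' ⟨u, hQr hu⟩).1 hu
    · have h1 := (mem_normalizer_iff''.1 hlN' ⟨_, hQr hu⟩).1 hu
      rw [mem_subgroupOf] at h1
      simpa [mul_assoc] using h1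
  obtain ⟨j, hj⟩ := exists_orderOf_eq Qr.2 hlQ
  have hlN : l ∈ N := mem_of_rpow H hj
  have hlC : l ∉ C := fun hlC => by
    have h1 := card_le_pcard ((isPGroup_zpowers hj).to_sup_of_normal_right' hPr (zpowers_le.2 hln))
      (sup_le (zpowers_le.2 hlC) hPrC)
    have h2 := Subgroup.eq_of_le_of_card_ge (le_sup_right : Pr ≤ zpowers l ⊔ Pr)
      (hPrc.symm ▸ h1)
    exact hlP (mem_subgroupOf.2 (h2 ▸ mem_sup_left (mem_zpowers l) : l ∈ Pr))
  have hlconj : ∀ v, l * v * l⁻¹ ∈ C ↔ v ∈ C := by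
    intro v
    have hx' : l * x * l⁻¹ ∈ Pr := (mem_normalizer_iff.1 hln x).1 hxPr
    have hx'Z : l * x * l⁻¹ ∉ center G := fun h => hxZ (by
      rw [show x = l * x * l⁻¹ from ?_]
      · exact h
      calc x = l⁻¹ * ((l * x * l⁻¹) * l) := by group
        _ = l⁻¹ * (l * (l * x * l⁻¹)) := by rw [mem_center_iff.1 h l]
        _ = l * x * l⁻¹ := inv_mul_cancel_left _ _)
    have h1 := hM.cent_eq' H hwN (hPrN hx') (hPrC hx') hx'Z
    rw [← hC] at h1
    conv_lhs => rw [h1, cent_conj_mem, hcx]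
    rw [show l⁻¹ * (l * v * l⁻¹) * l = v by group]
  have hlT : ∀ u ∈ T, l * u * l⁻¹ ∈ T := by
    intro u hu
    have huN : l * u * l⁻¹ ∈ N := Normal.conj_mem ‹_› u hu.2 l
    have huC : l * u * l⁻¹ ∈ C := (hlconj u).2 (hTC hu)
    refine hTmem huN ?_ (zpowers_le.2
      (mem_normalizer_of_comm fun v hv => (hM.comm hv.2 (hTC hv) huC).symm))
    rw [← MulAut.conj_apply, MulEquiv.orderOf_eq]
    exact exists_orderOf_eq S.2 hu.1
  have hlT' : l ∈ normalizer (T : Set G) :=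
    mem_normalizer_iff.2 fun u => ⟨hlT u, fun hu => by
      have hfin : ∀ n : ℕ, ∀ v ∈ T, l ^ n * v * (l ^ n)⁻¹ ∈ T := by
        intro n
        induction n with
        | zero => simp
        | succ n ih =>
          intro v hv
          rw [show l ^ (n + 1) * v * (l ^ (n + 1))⁻¹ = l * (l ^ n * v * (l ^ n)⁻¹) * l⁻¹ by
            rw [pow_succ']; group]
          exact hlT _ (ih v hv)
      have h1 := hfin (orderOf l - 1) _ hu
      have h2 : l ^ (orderOf l - 1) = l⁻¹ := by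
        refine eq_inv_of_mul_eq_one_left ?_
        rw [← pow_succ, Nat.sub_add_cancel (orderOf_pos l), pow_orderOf_eq_one]
      rw [h2] at h1
      simpa [mul_assoc] using h1⟩
  obtain ⟨s, hsS, hsC⟩ := SetLike.not_le_iff_exists.1 hSw
  set z : G := s * w * s⁻¹ * w⁻¹ with hz
  have hzc : z ∈ center G := hstep s hsS
  have hsw : s * w * s⁻¹ = z * w := by rw [hz]; group
  have hz1 : z ≠ 1 := fun h => hsC (by
    rw [hC, mem_cent]
    rw [h, one_mul] at hsw
    exact (mul_inv_eq_iff_eq_mul.1 hsw).symm)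
  have hzq : z ^ q = 1 := by
    have h1 : (s * w * s⁻¹) ^ q = w ^ q := by
      rw [conj_pow, mem_center_iff.1 hwq s, mul_inv_cancel_right]
    rwa [hsw, (show Commute z w from (mem_center_iff.1 hzc w).symm).mul_pow, mul_eq_right] at h1
  obtain ⟨c₁, hc₁, i, hi⟩ := hTform (l⁻¹ * w * l)
    ((mem_normalizer_iff''.1 hlT' w).1 (mem_inf.2 ⟨hwS, hwN⟩))
  have hi1 : ¬ (q : ℤ) ∣ i - 1 := by
    rintro ⟨a, ha⟩
    refine hlC ?_
    set c : G := c₁ * (w ^ (q : ℤ)) ^ a with hcdef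
    have hc : c ∈ center G := mul_mem hc₁ (zpow_mem (by rwa [zpow_natCast]) a)
    have h1 : l⁻¹ * w * l⁻¹⁻¹ = c * w := by
      rw [inv_inv, hi, hcdef, ← zpow_mul, mul_assoc, ← zpow_add_one, ← ha, sub_add_cancel]
    have hc1 : c = 1 := by
      have hl : l⁻¹ ^ r ^ j = 1 := by rw [inv_pow, ← hj, pow_orderOf_eq_one, inv_one]
      have h2 := conj_iter hc h1 (r ^ j)
      rw [hl, one_mul, inv_one, mul_one, eq_comm, mul_eq_right] at h2
      have h3 : c ^ q = 1 := by
        have h4 : (l⁻¹ * w * l⁻¹⁻¹) ^ q = w ^ q := by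
          rw [conj_pow, mem_center_iff.1 hwq l⁻¹, mul_inv_cancel_right]
        rwa [h1, (show Commute c w from (mem_center_iff.1 hc w).symm).mul_pow, mul_eq_right] at h4
      have h5 : orderOf c ∣ Nat.gcd q (r ^ j) :=
        Nat.dvd_gcd (orderOf_dvd_of_pow_eq_one h3) (orderOf_dvd_of_pow_eq_one h2)
      rw [(hqc.pow_right j).gcd_eq_one, Nat.dvd_one, orderOf_eq_one_iff] at h5
      exact h5
    rw [hc1, one_mul, inv_inv] at h1
    rw [hC, mem_cent]
    calc w * l = l * (l⁻¹ * w * l) := by group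
      _ = l * w := by rw [h1]
  set u : G := l * s * l⁻¹ * s⁻¹ with hu
  have huN : u ∈ N := by
    rw [hu, mul_assoc, mul_assoc, ← mul_assoc s]
    exact mul_mem hlN (Normal.conj_mem ‹_› _ (inv_mem hlN) s)
  have hsT : s ∈ normalizer (T : Set G) := mem_normalizer_iff.2 fun v => by
    have hsn : s ∈ normalizer ((S : Subgroup G) : Set G) := le_normalizer hsS
    constructor
    · intro hv
      exact ⟨(mem_normalizer_iff.1 hsn v).1 hv.1, Normal.conj_mem ‹_› v hv.2 s⟩
    · intro hv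
      refine ⟨(mem_normalizer_iff.1 hsn v).2 hv.1, ?_⟩
      have := Normal.conj_mem ‹_› _ hv.2 s⁻¹
      simpa [mul_assoc] using this
  have hun : u ∈ normalizer (T : Set G) :=
    mul_mem (mul_mem (mul_mem hlT' hsT) (inv_mem hlT')) (inv_mem hsT)
  set c : G := z ^ i * z⁻¹ with hcdef
  have hcc : c ∈ center G := mul_mem (zpow_mem hzc i) (inv_mem hzc)
  have hu_w : u * w * u⁻¹ = c * w := by
    have e1 : s⁻¹ * w * s = z⁻¹ * w := by
      have h0 : s⁻¹ * (s * w * s⁻¹) * s = w := by group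
      rw [hsw] at h0
      calc s⁻¹ * w * s = z⁻¹ * (z * (s⁻¹ * w * s)) := by group
        _ = z⁻¹ * (s⁻¹ * (z * w) * s) := by
            rw [← mul_assoc z, ← mul_assoc z, ← mem_center_iff.1 hzc s⁻¹, mul_assoc s⁻¹ z w]
        _ = z⁻¹ * w := by rw [h0]
    have hzi : z⁻¹ ∈ center G := inv_mem hzc
    calc u * w * u⁻¹ = l * (s * (l⁻¹ * (s⁻¹ * w * s) * l) * s⁻¹) * l⁻¹ := by rw [hu]; group
      _ = l * (s * (z⁻¹ * (l⁻¹ * w * l)) * s⁻¹) * l⁻¹ := by
          rw [e1, ← mul_assoc l⁻¹, mem_center_iff.1 hzi l⁻¹]; group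
      _ = l * (s * ((z⁻¹ * c₁) * w ^ i) * s⁻¹) * l⁻¹ := by rw [hi, mul_assoc z⁻¹]
      _ = l * ((z⁻¹ * c₁) * (s * w * s⁻¹) ^ i) * l⁻¹ := by
          rw [← mul_assoc s, mem_center_iff.1 (mul_mem hzi hc₁) s, conj_zpow]; group
      _ = l * ((z ^ i * z⁻¹) * (c₁ * w ^ i)) * l⁻¹ := by
          rw [hsw, (show Commute z w from (mem_center_iff.1 hzc w).symm).mul_zpow,
            show z ^ i * z⁻¹ * (c₁ * w ^ i) = z⁻¹ * c₁ * (z ^ i * w ^ i) from ?_]
          rw [mul_assoc z⁻¹ c₁, ← mul_assoc c₁, mem_center_iff.1 (zpow_mem hzc i) c₁,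
            mul_assoc, ← mul_assoc (z ^ i), mem_center_iff.1 hzi (z ^ i), mul_assoc, mul_assoc (z ^ i)]
      _ = c * (l * (l⁻¹ * w * l) * l⁻¹) := by
          rw [← hi, ← mul_assoc l, mem_center_iff.1 hcc l]; group
      _ = c * w := by group
  have huq : u ^ q ∈ C := by
    rw [hC, mem_cent]
    have h1 := conj_iter hcc hu_w q
    have h2 : c ^ q = 1 := by
      rw [hcdef, (show Commute (z ^ i) z⁻¹ from ((Commute.refl z).zpow_left i).inv_right).mul_pow,
        ← zpow_natCast, ← zpow_mul, mul_comm, zpow_mul, zpow_natCast, hzq, one_zpow, inv_pow, hzq,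
        inv_one, one_mul]
    rw [h2, one_mul] at h1
    exact (mul_inv_eq_iff_eq_mul.1 h1).symm
  have hu_not : u ∉ C := by
    intro h
    rw [hC, mem_cent] at h
    rw [← h, mul_inv_cancel_right] at hu_w
    have hc1 : c = 1 := mul_eq_right.1 hu_w.symm
    have hzi : z ^ (i - 1) = 1 := by rw [zpow_sub_one]; exact hc1
    have hz_ord : orderOf z = q := orderOf_eq_prime hzq hz1
    exact hi1 (hz_ord ▸ orderOf_dvd_iff_zpow_eq_one.2 hzi)
  obtain ⟨v, v', hv, hv', huv, -, -, hvp, hv'q⟩ := exists_split q u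
  have hvord : ∃ a, orderOf v = q ^ a := ⟨(orderOf v).primeFactorsList.length,
    Nat.eq_prime_pow_of_unique_prime_dvd (orderOf_pos v).ne' fun {d} hd hdd =>
      (Nat.prime_dvd_prime_iff_eq hd hq.out).1 (hvp d hd hdd)⟩
  have hv'C : v' ∈ C := by
    obtain ⟨a, rfl⟩ := mem_zpowers_iff.1 hv'
    have h1 : (u ^ a) ^ q ∈ C := by
      rw [← zpow_natCast, ← zpow_mul, mul_comm, zpow_mul, zpow_natCast]
      exact zpow_mem huq a
    obtain ⟨e', he'⟩ := exists_pow_eq_self_of_coprime hv'q.symm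
    exact he' ▸ pow_mem h1 e'
  have hvT : v ∈ T := hTmem (zpowers_le.2 huN hv) hvord
    ((zpowers_le.2 hv).trans (zpowers_le.2 hun))
  exact hu_not (huv ▸ mul_mem (hTC hvT) hv'C)

/-- Every noncentral element of `N` is central in its centraliser. -/
theorem mixed_all (H : Hyp R N m) (hR : ¬ (R : Subgroup G) ≤ center G)
    (hZR : ∀ w ∈ (R : Subgroup G), (R : Subgroup G) ≤ cent w → w ∈ center G)
    {y : G} (hyN : y ∈ N) (hyZ : y ∉ center G) (hyr : (orderOf y).Coprime r)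
    {x : G} (hx : x ∈ N) (hxZ : x ∉ center G) :
    Mixed N x ∧ ∃ a ∈ N, a ∈ cent x ∧ a ∉ center G ∧ (orderOf a).Coprime r := by
  obtain ⟨q, b, hq, hqd, y₁, hy₁, hy₁Z, hy₁o⟩ := exists_primePow_notMem_center hyZ
  haveI := Fact.mk hq
  have hqr : q ≠ r := fun h => hr.out.ne_one (Nat.eq_one_of_dvd_coprimes hyr (h ▸ hqd) dvd_rfl)
  obtain ⟨a, b', ha, hb, hab, ⟨k, hk⟩, hbr⟩ := exists_parts (r := r) x
  have hbN : b' ∈ N := zpowers_le.2 hx hb
  have haN : a ∈ N := zpowers_le.2 hx ha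
  have hbx : b' ∈ cent x := zpowers_le.2 (self_mem_cent x) hb
  by_cases hbZ : b' ∈ center G
  · have haZ : a ∉ center G := fun haZ => hxZ (hab ▸ mul_mem haZ hbZ)
    have hcx : cent x = cent a := cent_eq H hx haN (cent_le_of_mem_zpowers ha) haZ
    obtain ⟨c, hcN, hca, hcZ, hcr⟩ : ∃ c ∈ N, c ∈ cent a ∧ c ∉ center G ∧
        (orderOf c).Coprime r := by
      by_contra! hall
      exact no_pure H hR hZR hk haZ
        (fun v hv hva hvr => by_contra fun hvZ => hall v hv hva hvZ hvr) hqr hy₁o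
        (zpowers_le.2 hyN hy₁) hy₁Z
    have hM := (mixed_of_pair H hk haZ hcN hcZ hcr hca).2
    exact ⟨fun v hv hvx => by rw [hcx] at hvx ⊢; exact hM v hv hvx, c, hcN, hcx ▸ hca, hcZ, hcr⟩
  · have hcx : cent x = cent b' := cent_eq H hx hbN (cent_le_of_mem_zpowers hb) hbZ
    have hM := mixed_of_coprime H hR hbN hbZ hbr
    exact ⟨fun v hv hvx => by rw [hcx] at hvx ⊢; exact hM v hv hvx, b', hbN, hbx, hbZ, hbr⟩

end Cfsg.Agent.ClassSize.SylowSubset
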