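import Mathlib
import Cfsg.Agent.Lib.ClassSize.SylowSubset.Pure

/-!
# The partition count
-/

set_option autoImplicit false
set_option linter.style.haveILetI false
set_option linter.unusedSectionVars false

namespace Cfsg.Agent.ClassSize.SylowSubset

open Subgroup Cfsg.Agent.ClassSize.CoprimeTop

variable {G : Type*} [Group G] [Finite G] {r : ℕ} [hr : Fact r.Prime]
  {R : Sylow r G} {N : Subgroup G} [N.Normal] {m : ℕ}

/-- The data of the counting argument. -/
structure Cfg (R : Sylow r G) (N : Subgroup G) (m : ℕ) (M₀ : ℕ) : Prop where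
  hyp : Hyp R N m
  notCentral : ¬ (R : Subgroup G) ≤ center G
  mixed : ∀ x ∈ N, x ∉ center G →
    Mixed N x ∧ ∃ a ∈ N, a ∈ cent x ∧ a ∉ center G ∧ (orderOf a).Coprime r
  pcard_eq : ∀ x ∈ N, x ∉ center G → pcard r (cent x) = M₀
  card_R : Nat.card (R : Subgroup G) = r * M₀

theorem exists_cfg (H : Hyp R N m) (hR : ¬ (R : Subgroup G) ≤ center G)
    (hZR : ∀ w ∈ (R : Subgroup G), (R : Subgroup G) ≤ cent w → w ∈ center G)
    {y : G} (hy : y ∈ N) (hyZ : y ∉ center G) (hyr : (orderOf y).Coprime r) :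
    ∃ M₀, Cfg R N m M₀ := by
  have hall := fun x hx hxZ => mixed_all H hR hZR hy hyZ hyr (x := x) hx hxZ
  obtain ⟨u, huR, huZ⟩ := SetLike.not_le_iff_exists.1 hR
  obtain ⟨x, hxR, hxN, hxZ, hxr, hstep⟩ := exists_step R huR (H.hRN huR) huZ
  obtain ⟨hM, a, haN, hax, haZ, har⟩ := hall x hxN hxZ
  have h1 := card_le_mul_card_inf H hr.out hM hxN (R : Subgroup G) hstep hxr haN hax haZ har.symm
  refine ⟨pcard r (cent x), H, hR, hall, fun v hv hvZ => pcard_cent_eq H r hv hvZ hxN hxZ, ?_⟩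
  refine le_antisymm (h1.trans (Nat.mul_le_mul_left r
    (card_le_pcard (R.2.to_le inf_le_left) inf_le_right))) ?_
  obtain ⟨P, hP, hPx, hPc⟩ := exists_pcard r (cent x)
  obtain ⟨Q, hQ⟩ := hP.exists_le_sylow
  have hcardQ : Nat.card (Q : Subgroup G) = Nat.card (R : Subgroup G) := by
    rw [R.card_eq_multiplicity, Q.card_eq_multiplicity]
  obtain ⟨k, hk⟩ := exists_orderOf_eq R.2 hxR
  rw [← hPc, ← hcardQ]
  obtain ⟨a', ha'⟩ := IsPGroup.iff_card.1 hP
  obtain ⟨b', hb'⟩ := IsPGroup.iff_card.1 Q.2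
  rw [ha', hb', ← pow_succ']
  refine Nat.pow_le_pow_right hr.out.pos ?_
  by_contra hlt
  refine not_sylow_le hZR hk hxZ Q ?_
  have hPQ : P = (Q : Subgroup G) := Subgroup.eq_of_le_of_card_ge hQ
    (by rw [ha', hb']; exact Nat.pow_le_pow_right hr.out.pos (by omega))
  exact hPQ ▸ hPx

/-- `D` is the trace on `R` of a centraliser, of full order. -/
def IsLine (R : Sylow r G) (M₀ : ℕ) (D : Subgroup G) : Prop :=
  ∃ d ∈ (R : Subgroup G), d ∉ center G ∧ D = (R : Subgroup G) ⊓ cent d ∧ Nat.card D = M₀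

/-- The centraliser in `N` of a line. -/
def ker' (N D : Subgroup G) : Subgroup G := centralizer (D : Set G) ⊓ N

/-- The noncentral elements conjugate into `C_N(D)`. -/
def orbit' (N D : Subgroup G) : Set G :=
  {x | ∃ n ∈ N, ∃ a ∈ ker' N D, a ∉ center G ∧ x = n * a * n⁻¹}

/-- The stabiliser of `C_N(D)` in `N`. -/
def stab' (N D : Subgroup G) : Subgroup G := normalizer (ker' N D : Set G) ⊓ N

variable {M₀ : ℕ}

theorem Cfg.line_spec (S : Cfg R N m M₀) {D : Subgroup G} (hD : IsLine R M₀ D) {v : G}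
    (hv : v ∈ D) (hvZ : v ∉ center G) :
    D = (R : Subgroup G) ⊓ cent v ∧ ker' N D = cent v ⊓ N := by
  obtain ⟨d, hdR, hdZ, rfl, -⟩ := hD
  have hvR : v ∈ (R : Subgroup G) := hv.1
  have hdN := S.hyp.hRN hdR
  have hvN := S.hyp.hRN hvR
  have hvd : cent d = cent v := (S.mixed d hdN hdZ).1.cent_eq' S.hyp hdN hvN hv.2 hvZ
  refine ⟨by rw [hvd], le_antisymm (inf_le_inf_right _ fun u hu => ?_) fun u hu => ?_⟩
  · exact mem_cent.2 (mem_centralizer_iff.1 hu v hv)
  · refine mem_inf.2 ⟨mem_centralizer_iff.2 fun b hb => ?_, hu.2⟩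
    exact (S.mixed d hdN hdZ).1.comm (S.hyp.hRN hb.1) hb.2 (hvd ▸ hu.1)

theorem Cfg.line_nonempty {D : Subgroup G} (hD : IsLine R M₀ D) :
    ∃ v ∈ D, v ∈ (R : Subgroup G) ∧ v ∉ center G := by
  obtain ⟨d, hdR, hdZ, rfl, -⟩ := hD
  exact ⟨d, mem_inf.2 ⟨hdR, self_mem_cent d⟩, hdR, hdZ⟩

theorem Cfg.line_le {D : Subgroup G} (hD : IsLine R M₀ D) :
    D ≤ (R : Subgroup G) ∧ (R : Subgroup G) ⊓ center G ≤ D := by
  obtain ⟨d, -, -, rfl, -⟩ := hD
  exact ⟨inf_le_left, inf_le_inf_left _ (center_le_cent d)⟩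

theorem Cfg.line_eq (S : Cfg R N m M₀) {D D' : Subgroup G} (hD : IsLine R M₀ D)
    (hD' : IsLine R M₀ D') {v : G} (hv : v ∈ D) (hv' : v ∈ D') (hvZ : v ∉ center G) : D = D' := by
  rw [(S.line_spec hD hv hvZ).1, (S.line_spec hD' hv' hvZ).1]

theorem Cfg.inf_le_center (S : Cfg R N m M₀) {D D' : Subgroup G} (hD : IsLine R M₀ D)
    (hD' : IsLine R M₀ D') (hne : D ≠ D') : D ⊓ D' ≤ (R : Subgroup G) ⊓ center G := fun _ hv =>
  mem_inf.2 ⟨(line_le hD).1 hv.1, by_contra fun hvZ => hne (S.line_eq hD hD' hv.1 hv.2 hvZ)⟩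

theorem Cfg.relIndex_line (S : Cfg R N m M₀) {D : Subgroup G} (hD : IsLine R M₀ D) :
    D.relIndex (R : Subgroup G) = r := by
  have h1 := Subgroup.relIndex_mul_relIndex (⊥ : Subgroup G) D (R : Subgroup G) bot_le (line_le hD).1
  obtain ⟨d, -, -, -, hc⟩ := hD
  rw [relIndex_bot_left, relIndex_bot_left, hc, S.card_R, mul_comm r] at h1
  exact Nat.eq_of_mul_eq_mul_left (hc ▸ Nat.card_pos) h1

theorem Cfg.sylow_le_normalizer (S : Cfg R N m M₀) {D : Subgroup G} (hD : IsLine R M₀ D) :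
    ∀ u ∈ (R : Subgroup G), ∀ v ∈ D, u * v * u⁻¹ ∈ D := by
  have hidx : (D.subgroupOf (R : Subgroup G)).index = r := S.relIndex_line hD
  have hn : (D.subgroupOf (R : Subgroup G)).Normal := by
    refine normal_of_index_eq_minFac_card ?_
    obtain ⟨j, hj⟩ := IsPGroup.iff_card.1 R.2
    rcases j with _ | j
    · exfalso
      rw [pow_zero, S.card_R] at hj
      exact hr.out.ne_one (Nat.eq_one_of_mul_eq_one_right hj)
    · rw [hidx, hj, Nat.pow_minFac j.succ_ne_zero, hr.out.minFac_eq]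
  intro u hu v hv
  exact hn.conj_mem ⟨v, (line_le hD).1 hv⟩ hv ⟨u, hu⟩

theorem Cfg.mem_line (S : Cfg R N m M₀) {D : Subgroup G} (hD : IsLine R M₀ D) {u : G}
    (hu : u ∈ ker' N D) {k : ℕ} (hk : orderOf u = r ^ k) : u ∈ D := by
  obtain ⟨d, hdD, hdR, hdZ⟩ := Cfg.line_nonempty hD
  obtain ⟨hDeq, hKeq⟩ := S.line_spec hD hdD hdZ
  have hud : u ∈ cent d := (mem_inf.1 (hKeq ▸ hu)).1
  have hn : zpowers u ≤ normalizer (D : Set G) :=
    zpowers_le.2 (mem_normalizer_of_comm fun v hv => (mem_centralizer_iff.1 hu.1 v hv).symm)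
  have hDp : IsPGroup r D := R.2.to_le (line_le hD).1
  have h1 := card_le_pcard ((isPGroup_zpowers hk).to_sup_of_normal_right' hDp hn)
    (sup_le (zpowers_le.2 hud) (hDeq.le.trans inf_le_right))
  have hc : Nat.card D = M₀ := by obtain ⟨_, -, -, -, hc⟩ := hD; exact hc
  rw [S.pcard_eq d (S.hyp.hRN hdR) hdZ, ← hc] at h1
  have h2 := Subgroup.eq_of_le_of_card_ge (le_sup_right : D ≤ zpowers u ⊔ D) h1
  exact h2 ▸ mem_sup_left (mem_zpowers u)

theorem Cfg.sylow_le_stab (S : Cfg R N m M₀) {D : Subgroup G} (hD : IsLine R M₀ D) :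
    (R : Subgroup G) ≤ stab' N D := by
  intro u hu
  refine mem_inf.2 ⟨?_, S.hyp.hRN hu⟩
  have key : ∀ u ∈ (R : Subgroup G), ∀ x ∈ ker' N D, u * x * u⁻¹ ∈ ker' N D := by
    intro u hu x hx
    refine mem_inf.2 ⟨mem_centralizer_iff.2 fun v hv => ?_, Normal.conj_mem ‹_› x hx.2 u⟩
    have h1 := S.sylow_le_normalizer hD u⁻¹ (inv_mem hu) v hv
    rw [inv_inv] at h1
    have h2 := mem_centralizer_iff.1 hx.1 _ h1
    calc v * (u * x * u⁻¹) = u * ((u⁻¹ * v * u) * x) * u⁻¹ := by group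
      _ = u * (x * (u⁻¹ * v * u)) * u⁻¹ := by rw [h2]
      _ = u * x * u⁻¹ * v := by group
  refine mem_normalizer_iff.2 fun x => ⟨key u hu x, fun hx => ?_⟩
  have := key u⁻¹ (inv_mem hu) _ hx
  simpa [mul_assoc] using this

theorem Cfg.ker_le_stab (D : Subgroup G) : ker' N D ≤ stab' N D :=
  le_inf le_normalizer inf_le_right

theorem Cfg.center_le_ker (D : Subgroup G) : center G ⊓ N ≤ ker' N D :=
  inf_le_inf_right _ (center_le_centralizer _)

theorem Cfg.exists_orbit (S : Cfg R N m M₀) {x : G} (hx : x ∈ N) (hxZ : x ∉ center G) :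
    ∃ D, IsLine R M₀ D ∧ x ∈ orbit' N D := by
  obtain ⟨hM, a, haN, hax, haZ, har⟩ := S.mixed x hx hxZ
  obtain ⟨c, ⟨k, hk⟩, hcN, hcZ, -, hca⟩ := exists_rElem S.hyp S.notCentral haN haZ har
  have hcx : cent x = cent c := by rw [hca]; exact hM.cent_eq' S.hyp hx haN hax haZ
  obtain ⟨P, hP, hPc, hPcard⟩ := exists_pcard r (cent c)
  have hcP : c ∈ P := by
    have hn : zpowers c ≤ normalizer (P : Set G) :=
      zpowers_le.2 (mem_normalizer_of_comm fun u hu => mem_cent.1 (hPc hu))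
    have h1 := card_le_pcard ((isPGroup_zpowers hk).to_sup_of_normal_right' hP hn)
      (sup_le (zpowers_le.2 (self_mem_cent c)) hPc)
    have h2 := Subgroup.eq_of_le_of_card_ge (le_sup_right : P ≤ zpowers c ⊔ P) (hPcard.symm ▸ h1)
    exact h2 ▸ mem_sup_left (mem_zpowers c)
  obtain ⟨Q, hQ⟩ := hP.exists_le_sylow
  obtain ⟨g, hg⟩ := MulAction.exists_smul_eq G Q R
  have hgm : g ∈ normalizer ((R : Subgroup G) : Set G) ⊔ N :=
    (Sylow.normalizer_sup_eq_top' R S.hyp.hRN).symm ▸ mem_top g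
  rw [← SetLike.mem_coe, mul_normal] at hgm
  obtain ⟨t, ht, n, hn, rfl⟩ := hgm
  have hPR : ∀ u ∈ P, n * u * n⁻¹ ∈ (R : Subgroup G) := by
    intro u hu
    refine (mem_normalizer_iff.1 ht _).2 ?_
    rw [← hg, Sylow.coe_subgroup_smul]
    refine ⟨u, hQ hu, ?_⟩
    show t * n * u * (t * n)⁻¹ = t * (n * u * n⁻¹) * t⁻¹
    group
  set d := n * c * n⁻¹ with hd
  have hdR : d ∈ (R : Subgroup G) := hPR c hcP
  have hdZ : d ∉ center G := fun h => hcZ (by
    have := Normal.conj_mem (inferInstance : (center G).Normal) _ h n⁻¹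
    simpa [hd, mul_assoc] using this)
  have hline : IsLine R M₀ ((R : Subgroup G) ⊓ cent d) := by
    refine ⟨d, hdR, hdZ, rfl, le_antisymm ?_ ?_⟩
    · exact S.pcard_eq d (S.hyp.hRN hdR) hdZ ▸ card_le_pcard (R.2.to_le inf_le_left) inf_le_right
    · rw [← S.pcard_eq c hcN hcZ, ← hPcard,
        ← card_map_of_injective (K := P) (f := (MulAut.conj n).toMonoidHom) (MulAut.conj n).injective]
      refine Subgroup.card_le_of_le ?_
      rintro _ ⟨u, hu, rfl⟩
      refine mem_inf.2 ⟨hPR u hu, ?_⟩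
      show n * u * n⁻¹ ∈ cent d
      rw [hd, cent_conj_mem, show n⁻¹ * (n * u * n⁻¹) * n = u by group]
      exact hPc hu
  refine ⟨_, hline, n⁻¹, inv_mem hn, n * x * n⁻¹, ?_, ?_, by group⟩
  · rw [(S.line_spec hline (mem_inf.2 ⟨hdR, self_mem_cent d⟩) hdZ).2]
    refine mem_inf.2 ⟨?_, Normal.conj_mem ‹_› x hx n⟩
    rw [hd, cent_conj_mem, show n⁻¹ * (n * x * n⁻¹) * n = x by group, ← hcx]
    exact self_mem_cent x
  · intro h
    refine hxZ ?_
    have := Normal.conj_mem (inferInstance : (center G).Normal) _ h n⁻¹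
    simpa [mul_assoc] using this

/-- The orbit of a line consists of `[N : stab]` copies of `C_N(D) ∖ Z`. -/
theorem Cfg.ncard_orbit (S : Cfg R N m M₀) {D : Subgroup G} (hD : IsLine R M₀ D) :
    (orbit' N D).ncard = (stab' N D).relIndex N *
      (Nat.card (ker' N D) - Nat.card (center G ⊓ N : Subgroup G)) := by
  classical
  obtain ⟨d, hdD, hdR, hdZ⟩ := Cfg.line_nonempty hD
  have hK := (S.line_spec hD hdD hdZ).2
  set K := ker' N D with hKdef
  let A : Set G := (K : Set G) \ (center G : Set G)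
  have hA : A.ncard = Nat.card K - Nat.card (center G ⊓ N : Subgroup G) := by
    have e : A = (K : Set G) \ ((center G ⊓ N : Subgroup G) : Set G) := by
      ext v
      simp only [A, Set.mem_sdiff, SetLike.mem_coe, mem_inf]
      exact ⟨fun h => ⟨h.1, fun h' => h.2 h'.1⟩,
        fun h => ⟨h.1, fun h' => h.2 ⟨h', (mem_inf.1 h.1).2⟩⟩⟩
    rw [e, Set.ncard_sdiff (Cfg.center_le_ker D), ← Nat.card_coe_set_eq, ← Nat.card_coe_set_eq]
    rfl
  rw [← hA, relIndex, Subgroup.index, ← Nat.card_coe_set_eq A, ← Nat.card_prod,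
    ← Nat.card_coe_set_eq]
  set T := (stab' N D).subgroupOf N with hT
  let f : (N ⧸ T) × A → orbit' N D := fun p =>
    ⟨(p.1.out : G) * p.2 * (p.1.out : G)⁻¹, p.1.out, p.1.out.2, p.2, p.2.2.1, p.2.2.2, rfl⟩
  refine (Nat.card_eq_of_bijective f ⟨?_, ?_⟩).symm
  · rintro ⟨p, a⟩ ⟨p', a'⟩ h
    have h0 : (p.out : G) * a * (p.out : G)⁻¹ = (p'.out : G) * a' * (p'.out : G)⁻¹ :=
      congrArg Subtype.val h
    set u : G := ((p.out⁻¹ * p'.out : N) : G) with hu
    have hu' : u = (p.out : G)⁻¹ * (p'.out : G) := by simp [hu]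
    have hconj : u * a' * u⁻¹ = a := by
      rw [hu']
      calc (p.out : G)⁻¹ * p'.out * a' * ((p.out : G)⁻¹ * p'.out)⁻¹
          = (p.out : G)⁻¹ * ((p'.out : G) * a' * (p'.out : G)⁻¹) * p.out := by group
        _ = a := by rw [← h0]; group
    have haN : ∀ b : A, (b : G) ∈ N ∧ (b : G) ∈ cent d ∧ (b : G) ∉ center G := fun b => by
      have hb := hK ▸ b.2.1
      exact ⟨hb.2, hb.1, b.2.2⟩
    have hca : cent (a : G) = cent d :=
      ((S.mixed d (S.hyp.hRN hdR) hdZ).1.cent_eq' S.hyp (S.hyp.hRN hdR) (haN a).1 (haN a).2.1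
        (haN a).2.2).symm
    have hca' : cent (a' : G) = cent d :=
      ((S.mixed d (S.hyp.hRN hdR) hdZ).1.cent_eq' S.hyp (S.hyp.hRN hdR) (haN a').1 (haN a').2.1
        (haN a').2.2).symm
    have huT : (p.out⁻¹ * p'.out : N) ∈ T := by
      show ((p.out⁻¹ * p'.out : N) : G) ∈ stab' N D
      refine mem_inf.2 ⟨mem_normalizer_iff.2 fun v => ?_, SetLike.coe_mem _⟩
      show v ∈ ker' N D ↔ u * v * u⁻¹ ∈ ker' N D
      rw [← hKdef, hK, mem_inf, mem_inf]
      conv_rhs => rw [← hca, ← hconj, cent_conj_mem, hca']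
      rw [show u⁻¹ * (u * v * u⁻¹) * u = v by group]
      exact and_congr_right fun _ => ⟨fun hv => Normal.conj_mem ‹_› v hv u, fun hv => by
        have := Normal.conj_mem ‹_› _ hv u⁻¹
        simpa [mul_assoc] using this⟩
    have hp : p = p' := by
      rw [← p.out_eq, ← p'.out_eq]
      exact QuotientGroup.eq.2 huT
    subst hp
    exact Prod.ext rfl (Subtype.ext (mul_left_cancel (mul_right_cancel h0)))
  · rintro ⟨x, n, hn, a, ha, haZ, rfl⟩
    set p : N ⧸ T := QuotientGroup.mk ⟨n, hn⟩ with hp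
    obtain ⟨⟨u, huT⟩, hu⟩ := QuotientGroup.mk_out_eq_mul T ⟨n, hn⟩
    have huS : (u : G) ∈ stab' N D := huT
    have hb : (u : G)⁻¹ * a * u ∈ K := (mem_normalizer_iff''.1 huS.1 a).1 ha
    refine ⟨(p, ⟨(u : G)⁻¹ * a * u, hb, fun h => haZ ?_⟩), Subtype.ext ?_⟩
    · have := Normal.conj_mem (inferInstance : (center G).Normal) _ h (u : G)
      simpa [mul_assoc] using this
    · show (p.out : G) * ((u : G)⁻¹ * a * u) * (p.out : G)⁻¹ = n * a * n⁻¹
      rw [hp, hu]
      push_cast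
      group

theorem Cfg.stab_index (D : Subgroup G) :
    (stab' N D).relIndex N * (ker' N D).relIndex (stab' N D) * Nat.card (ker' N D) = Nat.card N := by
  have h1 := Subgroup.relIndex_mul_relIndex (⊥ : Subgroup G) (ker' N D) (stab' N D) bot_le
    (Cfg.ker_le_stab D)
  have h2 := Subgroup.relIndex_mul_relIndex (⊥ : Subgroup G) (stab' N D) N bot_le inf_le_right
  rw [relIndex_bot_left, relIndex_bot_left] at h1 h2
  rw [← h2, ← h1]
  ring

theorem Cfg.ker_big (S : Cfg R N m M₀) {D : Subgroup G} (hD : IsLine R M₀ D) :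
    2 * r * Nat.card (center G ⊓ N : Subgroup G) ≤ Nat.card (ker' N D) := by
  obtain ⟨d, hdD, hdR, hdZ⟩ := Cfg.line_nonempty hD
  obtain ⟨-, hK⟩ := S.line_spec hD hdD hdZ
  obtain ⟨-, a, haN, had, haZ, har⟩ := S.mixed d (S.hyp.hRN hdR) hdZ
  set ρ := (center G).relIndex (ker' N D) with hρ
  haveI : ((center G).subgroupOf (ker' N D)).Normal := inferInstance
  have hpow : ∀ v ∈ ker' N D, v ^ ρ ∈ center G := fun v hv =>
    mem_subgroupOf.1 (pow_index_mem ((center G).subgroupOf (ker' N D)) ⟨v, hv⟩)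
  have hdK : d ∈ ker' N D := by rw [hK]; exact mem_inf.2 ⟨self_mem_cent d, S.hyp.hRN hdR⟩
  obtain ⟨k, hk⟩ := exists_orderOf_eq R.2 hdR
  have hrρ : r ∣ ρ := by
    by_contra hnd
    refine hdZ (center_of_pow_mem ?_ (hpow d hdK))
    rw [hk]
    exact ((hr.out.coprime_iff_not_dvd.2 hnd).symm).pow_right k
  have hne : ρ ≠ r := fun h => haZ (center_of_pow_mem har.symm
    (h ▸ hpow a (by rw [hK]; exact mem_inf.2 ⟨had, haN⟩)))
  have h2 : 2 * r ≤ ρ := by
    obtain ⟨e, he⟩ := hrρ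
    rcases e with _ | _ | e
    · rw [mul_zero] at he
      exact absurd he index_ne_zero_of_finite
    · rw [zero_add, mul_one] at he
      exact absurd he hne
    · rw [he, mul_comm 2 r]
      exact Nat.mul_le_mul_left r (by omega)
  have h3 : center G ⊓ ker' N D = center G ⊓ N := le_antisymm
    (inf_le_inf_left _ inf_le_right) (le_inf inf_le_left (Cfg.center_le_ker D))
  have h4 := Subgroup.relIndex_mul_relIndex (⊥ : Subgroup G) (center G ⊓ ker' N D) (ker' N D) bot_le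
    inf_le_right
  rw [relIndex_bot_left, relIndex_bot_left, inf_relIndex_right, h3] at h4
  rw [← h4, mul_comm (Nat.card _) _]
  exact Nat.mul_le_mul_right _ h2

theorem Cfg.dvd_stab (S : Cfg R N m M₀) {D : Subgroup G} (hD : IsLine R M₀ D) :
    r ∣ (ker' N D).relIndex (stab' N D) := by
  have hRD : (ker' N D).relIndex (R : Subgroup G) = r := by
    rw [← inf_relIndex_right]
    have e : ker' N D ⊓ (R : Subgroup G) = D := by
      refine le_antisymm (fun u hu => ?_) (le_inf (fun u hu => ?_) (Cfg.line_le hD).1)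
      · obtain ⟨k, hk⟩ := exists_orderOf_eq R.2 hu.2
        exact S.mem_line hD hu.1 hk
      · obtain ⟨d, hdD, hdR, hdZ⟩ := Cfg.line_nonempty hD
        obtain ⟨h1, h2⟩ := S.line_spec hD hdD hdZ
        rw [h2]
        exact mem_inf.2 ⟨(h1 ▸ hu).2, S.hyp.hRN ((Cfg.line_le hD).1 hu)⟩
    rw [e]
    exact S.relIndex_line hD
  haveI : ((ker' N D).subgroupOf (stab' N D)).Normal :=
    normal_subgroupOf_of_le_normalizer inf_le_left
  have h1 := relIndex_dvd_index_of_normal ((ker' N D).subgroupOf (stab' N D))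
    ((R : Subgroup G).subgroupOf (stab' N D))
  rwa [relIndex_subgroupOf (S.sylow_le_stab hD), hRD] at h1

/-- Elements of the stabiliser moving `D` by central elements only. -/
def shifts (N D : Subgroup G) : Subgroup G where
  carrier := {u | u ∈ stab' N D ∧ ∀ a ∈ D, u * a * u⁻¹ * a⁻¹ ∈ center G}
  one_mem' := ⟨one_mem _, fun a _ => by simp⟩
  mul_mem' := by
    rintro u v ⟨hu, hu'⟩ ⟨hv, hv'⟩
    refine ⟨mul_mem hu hv, fun a ha => ?_⟩
    have h1 : u * v * a * (u * v)⁻¹ * a⁻¹ =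
        (u * (v * a * v⁻¹ * a⁻¹) * u⁻¹) * (u * a * u⁻¹ * a⁻¹) := by group
    rw [h1, mem_center_iff.1 (hv' a ha) u, mul_inv_cancel_right]
    exact mul_mem (hv' a ha) (hu' a ha)
  inv_mem' := by
    rintro u ⟨hu, hu'⟩
    refine ⟨inv_mem hu, fun a ha => ?_⟩
    have h1 : u⁻¹ * a * u⁻¹⁻¹ * a⁻¹ = u⁻¹ * (u * a * u⁻¹ * a⁻¹)⁻¹ * u := by group
    rw [h1, mem_center_iff.1 (inv_mem (hu' a ha)) u⁻¹, inv_mul_cancel_right]
    exact inv_mem (hu' a ha)

theorem Cfg.sylow_le_shifts (S : Cfg R N m M₀) {D D' : Subgroup G} (hD : IsLine R M₀ D)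
    (hD' : IsLine R M₀ D') (hne : D ≠ D') : (R : Subgroup G) ≤ shifts N D := by
  have hsup : D ⊔ D' = (R : Subgroup G) := by
    have hle : D ⊔ D' ≤ (R : Subgroup G) := sup_le (Cfg.line_le hD).1 (Cfg.line_le hD').1
    have h1 := Subgroup.relIndex_mul_relIndex D (D ⊔ D') (R : Subgroup G) le_sup_left hle
    rw [S.relIndex_line hD] at h1
    rcases hr.out.eq_one_or_self_of_dvd _ (Dvd.intro _ h1) with h2 | h2
    · refine absurd (Subgroup.eq_of_le_of_card_ge (le_sup_right.trans (relIndex_eq_one.1 h2)) ?_)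
        hne.symm
      obtain ⟨_, -, -, -, hc⟩ := hD
      obtain ⟨_, -, -, -, hc'⟩ := hD'
      rw [hc, hc']
    · rw [h2] at h1
      exact le_antisymm hle (relIndex_eq_one.1
        (Nat.eq_of_mul_eq_mul_left hr.out.pos (h1.trans (mul_one r).symm)))
  rw [← hsup]
  obtain ⟨d, hdD, hdR, hdZ⟩ := Cfg.line_nonempty hD
  have hM := (S.mixed d (S.hyp.hRN hdR) hdZ).1
  refine sup_le (fun u hu => ⟨S.sylow_le_stab hD ((Cfg.line_le hD).1 hu), fun a ha => ?_⟩)
    fun u hu => ⟨S.sylow_le_stab hD ((Cfg.line_le hD').1 hu), fun a ha => ?_⟩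
  · have h1 := (S.line_spec hD hdD hdZ).1
    have e : u * a = a * u := hM.comm (S.hyp.hRN ((Cfg.line_le hD).1 hu)) (h1 ▸ hu).2 (h1 ▸ ha).2
    rw [e, mul_inv_cancel_right, mul_inv_cancel]
    exact one_mem _
  · refine (S.inf_le_center hD hD' hne (mem_inf.2 ⟨?_, ?_⟩)).2
    · exact mul_mem (S.sylow_le_normalizer hD u ((Cfg.line_le hD').1 hu) a ha) (inv_mem ha)
    · have := mul_mem hu (S.sylow_le_normalizer hD' a ((Cfg.line_le hD).1 ha) u⁻¹ (inv_mem hu))
      simpa [mul_assoc] using this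

theorem Cfg.center_relIndex (S : Cfg R N m M₀) {D D' : Subgroup G} (hD : IsLine R M₀ D)
    (hD' : IsLine R M₀ D') (hne : D ≠ D') :
    (center G).relIndex D = r ∧ r * Nat.card ((R : Subgroup G) ⊓ center G : Subgroup G) = M₀ := by
  have e : center G ⊓ D = (R : Subgroup G) ⊓ center G := le_antisymm
    (fun v hv => ⟨(Cfg.line_le hD).1 hv.2, hv.1⟩) fun v hv => ⟨hv.2, (Cfg.line_le hD).2 hv⟩
  have hle : (center G).relIndex D ≤ r := by
    have h1 : D'.relIndex D ≤ r := S.relIndex_line hD' ▸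
      relIndex_le_of_le_right (Cfg.line_le hD).1 (by rw [relIndex]; exact index_ne_zero_of_finite)
    refine le_trans ?_ h1
    rw [← inf_relIndex_right (center G), ← inf_relIndex_right D']
    refine relIndex_le_of_le_left ?_ (by rw [relIndex]; exact index_ne_zero_of_finite)
    rw [e, inf_comm]
    exact S.inf_le_center hD hD' hne
  obtain ⟨d, hdD, hdR, hdZ⟩ := Cfg.line_nonempty hD
  obtain ⟨j, hj⟩ := IsPGroup.iff_card.1 (R.2.to_le (Cfg.line_le hD).1)
  have h2 := Subgroup.relIndex_mul_relIndex (⊥ : Subgroup G) (center G ⊓ D) D bot_le inf_le_right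
  rw [relIndex_bot_left, relIndex_bot_left, inf_relIndex_right] at h2
  obtain ⟨i, -, hi⟩ := (Nat.dvd_prime_pow hr.out).1
    (hj ▸ Dvd.intro_left _ h2 : (center G).relIndex D ∣ r ^ j)
  have hireq : (center G).relIndex D = r := by
    rcases i with _ | _ | i
    · exact absurd (relIndex_eq_one.1 (by simpa using hi) hdD) hdZ
    · simpa using hi
    · exfalso
      rw [hi] at hle
      have h3 : r ^ 1 < r ^ (i + 1 + 1) := Nat.pow_lt_pow_right hr.out.one_lt (by omega)
      rw [pow_one] at h3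
      omega
  refine ⟨hireq, ?_⟩
  obtain ⟨_, -, -, -, hc⟩ := hD
  rw [← hc, ← h2, hireq, e, mul_comm]

theorem Cfg.card_lines_le (S : Cfg R N m M₀) (s : Finset (Subgroup G))
    (hs : ∀ D ∈ s, IsLine R M₀ D) (h2 : 1 < s.card) : s.card ≤ r + 1 := by
  classical
  obtain ⟨D₁, hD₁, D₂, hD₂, hne⟩ := Finset.one_lt_card.1 h2
  obtain ⟨-, hM⟩ := S.center_relIndex (hs _ hD₁) (hs _ hD₂) hne
  set z := Nat.card ((R : Subgroup G) ⊓ center G : Subgroup G) with hz
  letI := Fintype.ofFinite G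
  let Zs : Finset G := (((R : Subgroup G) ⊓ center G : Subgroup G) : Set G).toFinset
  have hZs : Zs.card = z := by rw [Set.toFinset_card, ← Nat.card_eq_fintype_card]; rfl
  have hcard : ∀ D ∈ s, ((D : Set G).toFinset \ Zs).card = M₀ - z := by
    intro D hD
    obtain ⟨_, -, -, -, hc⟩ := hs D hD
    rw [Finset.card_sdiff_of_subset, hZs, Set.toFinset_card, ← Nat.card_eq_fintype_card]
    · exact congrArg (· - z) hc
    · exact Set.toFinset_mono (Cfg.line_le (hs D hD)).2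
  have hdis : (s : Set (Subgroup G)).PairwiseDisjoint fun D => (D : Set G).toFinset \ Zs := by
    intro D hD D' hD' hne
    rw [Function.onFun, Finset.disjoint_left]
    intro v hv hv'
    simp only [Zs, Finset.mem_sdiff, Set.mem_toFinset, SetLike.mem_coe] at hv hv'
    exact hv.2 (S.inf_le_center (hs D hD) (hs D' hD') hne ⟨hv.1, hv'.1⟩)
  have hsub : (s.biUnion fun D => (D : Set G).toFinset \ Zs) ⊆
      ((R : Subgroup G) : Set G).toFinset \ Zs := by
    intro v hv
    simp only [Finset.mem_biUnion, Zs, Finset.mem_sdiff, Set.mem_toFinset, SetLike.mem_coe] at hv ⊢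
    obtain ⟨D, hD, hvD, hvZ⟩ := hv
    exact ⟨(Cfg.line_le (hs D hD)).1 hvD, hvZ⟩
  have h1 := Finset.card_le_card hsub
  rw [Finset.card_biUnion hdis, Finset.sum_congr rfl hcard, Finset.sum_const, smul_eq_mul,
    Finset.card_sdiff_of_subset, hZs, Set.toFinset_card, ← Nat.card_eq_fintype_card] at h1
  · have hRc : Nat.card ((R : Subgroup G) : Set G) = r * M₀ := S.card_R
    rw [hRc, ← hM] at h1
    have hzpos : 0 < z := Nat.card_pos
    have hr2 := hr.out.two_le
    obtain ⟨c, rfl⟩ : ∃ c, r = c + 1 := ⟨r - 1, by omega⟩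
    have e1 : (c + 1) * z - z = c * z := by rw [add_mul, one_mul, Nat.add_sub_cancel]
    have e2 : (c + 1) * ((c + 1) * z) - z = (c + 1 + 1) * (c * z) := by
      rw [show (c + 1) * ((c + 1) * z) = (c + 1 + 1) * (c * z) + z by ring, Nat.add_sub_cancel]
    rw [e1, e2] at h1
    exact Nat.le_of_mul_le_mul_right h1 (Nat.mul_pos (by omega) hzpos)
  · exact Set.toFinset_mono inf_le_left

theorem orbit_eq_of_conj {D D' : Subgroup G} {n : G} (hn : n ∈ N)
    (h : ∀ x, x ∈ ker' N D' ↔ n⁻¹ * x * n ∈ ker' N D) : orbit' N D' = orbit' N D := by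
  have hZ : ∀ g v : G, g * v * g⁻¹ ∈ center G ↔ v ∈ center G := fun g v => by
    refine ⟨fun hv => ?_, fun hv => Normal.conj_mem inferInstance v hv g⟩
    have := Normal.conj_mem (inferInstance : (center G).Normal) _ hv g⁻¹
    simpa [mul_assoc] using this
  ext x
  constructor
  · rintro ⟨u, hu, a, ha, haZ, rfl⟩
    refine ⟨u * n, mul_mem hu hn, _, (h a).1 ha, fun hc => haZ ?_, by group⟩
    exact (hZ n⁻¹ a).1 (by rwa [inv_inv])
  · rintro ⟨u, hu, a, ha, haZ, rfl⟩
    refine ⟨u * n⁻¹, mul_mem hu (inv_mem hn), n * a * n⁻¹, (h _).2 ?_, fun hc => haZ ?_, by group⟩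
    · rwa [show n⁻¹ * (n * a * n⁻¹) * n = a by group]
    · exact (hZ n a).1 hc

/-- Two lines with meeting orbits are conjugate under `N`. -/
theorem Cfg.exists_conj_of_meet (S : Cfg R N m M₀) {D D' : Subgroup G} (hD : IsLine R M₀ D)
    (hD' : IsLine R M₀ D') {x : G} (h : x ∈ orbit' N D) (h' : x ∈ orbit' N D') :
    ∃ n ∈ N, ∀ v, v ∈ ker' N D' ↔ n⁻¹ * v * n ∈ ker' N D := by
  obtain ⟨u, hu, a, ha, haZ, rfl⟩ := h
  obtain ⟨u', hu', a', ha', ha'Z, he⟩ := h'
  refine ⟨u'⁻¹ * u, mul_mem (inv_mem hu') hu, fun v => ?_⟩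
  obtain ⟨d, hdD, hdR, hdZ⟩ := Cfg.line_nonempty hD
  obtain ⟨d', hdD', hdR', hdZ'⟩ := Cfg.line_nonempty hD'
  have hK := (S.line_spec hD hdD hdZ).2
  have hK' := (S.line_spec hD' hdD' hdZ').2
  rw [hK] at ha ⊢
  rw [hK'] at ha' ⊢
  have hca := (S.mixed d (S.hyp.hRN hdR) hdZ).1.cent_eq' S.hyp (S.hyp.hRN hdR) ha.2 ha.1 haZ
  have hca' := (S.mixed d' (S.hyp.hRN hdR') hdZ').1.cent_eq' S.hyp (S.hyp.hRN hdR') ha'.2 ha'.1
    ha'Z
  have ea : a' = u'⁻¹ * u * a * (u'⁻¹ * u)⁻¹ := by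
    calc a' = u'⁻¹ * (u' * a' * u'⁻¹) * u' := by group
      _ = u'⁻¹ * (u * a * u⁻¹) * u' := by rw [← he]
      _ = u'⁻¹ * u * a * (u'⁻¹ * u)⁻¹ := by group
  rw [hca', hca, mem_inf, mem_inf, ea, cent_conj_mem]
  refine and_congr_right fun _ => ⟨fun hv => ?_, fun hv => ?_⟩
  · have := Normal.conj_mem ‹_› v hv (u'⁻¹ * u)⁻¹
    rwa [inv_inv] at this
  · have := Normal.conj_mem ‹_› _ hv (u'⁻¹ * u)
    simpa [mul_assoc] using this

/-- If some stabiliser is big then all are, for pairwise nonconjugate lines. -/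
theorem Cfg.stab_big (S : Cfg R N m M₀) {D D' : Subgroup G} (hD : IsLine R M₀ D)
    (hD' : IsLine R M₀ D') (hne : D ≠ D')
    (hnc : ∀ E E' : Subgroup G, IsLine R M₀ E → IsLine R M₀ E' →
      (∃ n ∈ N, ∀ v, v ∈ ker' N E' ↔ n⁻¹ * v * n ∈ ker' N E) → E = E')
    (hW : (ker' N D).relIndex (stab' N D) ≠ r) : (ker' N D').relIndex (stab' N D') ≠ r := by
  obtain ⟨hzD, hM⟩ := S.center_relIndex hD hD' hne
  obtain ⟨hzD', -⟩ := S.center_relIndex hD' hD hne.symm
  set Λ := shifts N D with hΛdef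
  have hRΛ : (R : Subgroup G) ≤ Λ := S.sylow_le_shifts hD hD' hne
  have hΛst : Λ ≤ stab' N D := fun u hu => hu.1
  have hKΛ : ∀ E : Subgroup G, ker' N E ≤ shifts N E := fun E u hu =>
    ⟨Cfg.ker_le_stab E hu, fun a ha => by
      rw [← mem_centralizer_iff.1 hu.1 a ha, mul_inv_cancel_right, mul_inv_cancel]; exact one_mem _⟩
  -- the index of `C_N(D)` in the shifts
  haveI : ((ker' N D).subgroupOf Λ).Normal :=
    normal_subgroupOf_of_le_normalizer (hΛst.trans inf_le_left)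
  have hquot : IsPGroup r (Λ ⧸ (ker' N D).subgroupOf Λ) := by
    intro q
    obtain ⟨⟨u, hu⟩, rfl⟩ := QuotientGroup.mk'_surjective _ q
    refine ⟨1, ?_⟩
    rw [← map_pow]
    refine (QuotientGroup.eq_one_iff _).2 ?_
    rw [mem_subgroupOf, SubgroupClass.coe_pow, pow_one]
    refine mem_inf.2 ⟨mem_centralizer_iff.2 fun a ha => ?_, pow_mem (mem_inf.1 hu.1).2 r⟩
    set c := u * a * u⁻¹ * a⁻¹ with hc
    have hcZ : c ∈ center G := hu.2 a ha
    have hua : u * a * u⁻¹ = c * a := by rw [hc]; group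
    have har : a ^ r ∈ center G := by
      have h5 := pow_index_mem ((center G).subgroupOf D) ⟨a, ha⟩
      rw [mem_subgroupOf, show ((center G).subgroupOf D).index = r from hzD] at h5
      exact h5
    have hcr : c ^ r = 1 := by
      have h4 : (u * a * u⁻¹) ^ r = a ^ r := by
        rw [conj_pow, mem_center_iff.1 har u, mul_inv_cancel_right]
      rwa [hua, (show Commute c a from (mem_center_iff.1 hcZ a).symm).mul_pow, mul_eq_right] at h4
    have h3 := conj_iter hcZ hua r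
    rw [hcr, one_mul] at h3
    exact (mul_inv_eq_iff_eq_mul.1 h3).symm
  obtain ⟨i, hi⟩ := IsPGroup.iff_card.1 hquot
  have hrelΛ : (ker' N D).relIndex Λ ≤ r := by
    rw [relIndex, Subgroup.index, hi]
    have hdvd : M₀ * r ^ i ∣ Nat.card Λ := by
      have h1 := Subgroup.relIndex_mul_relIndex (⊥ : Subgroup G) (ker' N D) Λ bot_le (hKΛ D)
      rw [relIndex_bot_left, relIndex_bot_left, relIndex, Subgroup.index, hi] at h1
      rw [← h1]
      refine Nat.mul_dvd_mul_right ?_ _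
      obtain ⟨d, hdD, hdR, hdZ⟩ := Cfg.line_nonempty hD
      obtain ⟨hDeq, hKeq⟩ := S.line_spec hD hdD hdZ
      obtain ⟨_, -, -, -, hc⟩ := hD
      rw [← hc]
      refine card_dvd_of_le ?_
      rw [hKeq]
      exact le_inf (hDeq.le.trans inf_le_right) ((hDeq.le.trans inf_le_left).trans S.hyp.hRN)
    obtain ⟨P, hP, -, hPc⟩ := exists_pcard r Λ
    obtain ⟨Q, hQ⟩ := hP.exists_le_sylow
    have hM0 : ∃ j, M₀ = r ^ j := by
      obtain ⟨_, -, -, hDeq, hc⟩ := hD
      obtain ⟨j, hj⟩ := IsPGroup.iff_card.1 (R.2.to_le (hDeq.le.trans inf_le_left))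
      exact ⟨j, hc.symm.trans hj⟩
    obtain ⟨j, hj⟩ := hM0
    rw [hj, ← pow_add] at hdvd
    have h2 : r ^ (j + i) ≤ Nat.card P := hPc ▸ Nat.pow_le_pow_right hr.out.pos
      ((hr.out.pow_dvd_iff_le_factorization Nat.card_pos.ne').1 hdvd)
    have h3 := Subgroup.card_le_of_le hQ
    rw [show Nat.card (Q : Subgroup G) = Nat.card (R : Subgroup G) by
      rw [R.card_eq_multiplicity, Q.card_eq_multiplicity], S.card_R, hj] at h3
    have h6 : r ^ (j + i) ≤ r * r ^ j := h2.trans h3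
    rw [pow_add, mul_comm r] at h6
    exact Nat.le_of_mul_le_mul_left h6 (pow_pos hr.out.pos j)
  -- an element normalising `R` outside the shifts
  have hnle : ¬ stab' N D ≤ Λ := by
    intro h
    refine hW (le_antisymm ?_ (Nat.le_of_dvd (Nat.pos_of_ne_zero ?_) (S.dvd_stab hD)))
    · rwa [le_antisymm h hΛst]
    · rw [relIndex]; exact index_ne_zero_of_finite
  haveI : (Λ.subgroupOf (stab' N D)).Normal := by
    refine ⟨fun v hv g => ?_⟩
    rw [mem_subgroupOf] at hv ⊢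
    refine ⟨((g * v * g⁻¹ : stab' N D)).2, fun a ha => ?_⟩
    push_cast
    have hga : (g : G)⁻¹ * a * g ∈ D := by
      have h1 : (g : G)⁻¹ * a * g ∈ ker' N D := by
        refine (mem_normalizer_iff''.1 g.2.1 a).1 ?_
        obtain ⟨d, hdD, hdR, hdZ⟩ := Cfg.line_nonempty hD
        obtain ⟨hDeq, hKeq⟩ := S.line_spec hD hdD hdZ
        rw [hKeq]
        exact mem_inf.2 ⟨(hDeq ▸ ha).2, S.hyp.hRN (hDeq ▸ ha).1⟩
      obtain ⟨k, hk⟩ := exists_orderOf_eq R.2 ((Cfg.line_le hD).1 ha)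
      refine S.mem_line hD h1 (k := k) ?_
      rw [show (g : G)⁻¹ * a * g = MulAut.conj (g : G)⁻¹ a by simp, MulEquiv.orderOf_eq, hk]
    have h1 := hv.2 _ hga
    have h2 := Normal.conj_mem (inferInstance : (center G).Normal) _ h1 (g : G)
    have e : (g : G) * v * (g : G)⁻¹ * a * ((g : G) * v * (g : G)⁻¹)⁻¹ * a⁻¹ =
        (g : G) * ((v : G) * ((g : G)⁻¹ * a * g) * (v : G)⁻¹ * ((g : G)⁻¹ * a * g)⁻¹) * (g : G)⁻¹ := by
      group
    rwa [e]
  obtain ⟨h, hhst, hhn, hhΛ⟩ : ∃ h, h ∈ stab' N D ∧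
      h ∈ normalizer ((R : Subgroup G) : Set G) ∧ h ∉ Λ := by
    by_contra! hall
    refine hnle fun g hg => ?_
    have hRst : (R : Subgroup G) ≤ stab' N D := hRΛ.trans hΛst
    have hF := Sylow.normalizer_sup_eq_top' (R.subtype hRst) (N := Λ.subgroupOf (stab' N D))
      (fun u hu => hRΛ hu)
    have hgm : (⟨g, hg⟩ : stab' N D) ∈
        normalizer (((R.subtype hRst : Subgroup (stab' N D))) : Set (stab' N D)) ⊔
          Λ.subgroupOf (stab' N D) := hF.symm ▸ mem_top _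
    rw [← SetLike.mem_coe, mul_normal] at hgm
    obtain ⟨t, ht, v, hv, htv⟩ := hgm
    have htR : (t : G) ∈ normalizer ((R : Subgroup G) : Set G) := by
      refine mem_normalizer_iff.2 fun u => ⟨fun hu => ?_, fun hu => ?_⟩
      · exact (mem_normalizer_iff.1 ht ⟨u, hRst hu⟩).1 hu
      · have h1 := (mem_normalizer_iff''.1 ht ⟨_, hRst hu⟩).1 hu
        have e : (t : G)⁻¹ * ((t : G) * u * (t : G)⁻¹) * t = u := by group
        exact e ▸ h1
    have e : g = (t : G) * v := (congrArg Subtype.val htv).symm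
    rw [e]
    exact mul_mem (hall t t.2 htR) hv
  obtain ⟨a, ha, haZ⟩ : ∃ a ∈ D, h * a * h⁻¹ * a⁻¹ ∉ center G := by
    by_contra! hall
    exact hhΛ ⟨hhst, hall⟩
  have hhN : h ∈ N := hhst.2
  have hRconj : ∀ v, v ∈ (R : Subgroup G) → h * v * h⁻¹ ∈ (R : Subgroup G) := fun v hv =>
    (mem_normalizer_iff.1 hhn v).1 hv
  -- `h` fixes every line
  have hfix : ∀ E, IsLine R M₀ E → h ∈ stab' N E ∧ ∀ b ∈ E, h * b * h⁻¹ ∈ E := by
    intro E hE
    obtain ⟨e, heE, heR, heZ⟩ := Cfg.line_nonempty hE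
    obtain ⟨hEeq, hKe⟩ := S.line_spec hE heE heZ
    set E' := (R : Subgroup G) ⊓ cent (h * e * h⁻¹) with hE'
    have he'Z : h * e * h⁻¹ ∉ center G := fun hc => heZ (by
      have := Normal.conj_mem (inferInstance : (center G).Normal) _ hc h⁻¹
      simpa [mul_assoc] using this)
    have hiff : ∀ v, v ∈ (R : Subgroup G) ↔ h⁻¹ * v * h ∈ (R : Subgroup G) := fun v =>
      mem_normalizer_iff''.1 hhn v
    have hmap : E' = E.map (MulAut.conj h).toMonoidHom := by
      ext v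
      rw [mem_map_equiv, MulAut.conj_symm_apply, hEeq, hE', mem_inf, mem_inf, cent_conj_mem,
        hiff v]
    have hline : IsLine R M₀ E' := by
      refine ⟨_, hRconj e heR, he'Z, rfl, ?_⟩
      rw [hmap, card_map_of_injective (f := (MulAut.conj h).toMonoidHom) (MulAut.conj h).injective]
      obtain ⟨_, -, -, -, hc⟩ := hE
      exact hc
    have hker : ∀ v, v ∈ ker' N E' ↔ h⁻¹ * v * h ∈ ker' N E := fun v => by
      rw [hKe, (S.line_spec hline (mem_inf.2 ⟨hRconj e heR, self_mem_cent _⟩) he'Z).2, mem_inf,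
        mem_inf, cent_conj_mem]
      refine and_congr_right fun _ => ⟨fun hv => ?_, fun hv => ?_⟩
      · have := Normal.conj_mem ‹_› v hv h⁻¹
        rwa [inv_inv] at this
      · have := Normal.conj_mem ‹_› _ hv h
        simpa [mul_assoc] using this
    have heq : E = E' := hnc E E' hE hline ⟨h, hhN, hker⟩
    refine ⟨mem_inf.2 ⟨mem_normalizer_iff''.2 fun v => ?_, hhN⟩, fun b hb => ?_⟩
    · conv_lhs => rw [heq]
      exact hker v
    · rw [heq, hmap]
      exact mem_map_of_mem _ hb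
  have hh' : h ∈ stab' N D' ∧ h ∉ shifts N D' := by
    refine ⟨(hfix D' hD').1, fun hsh => ?_⟩
    obtain ⟨b, hbD', hbR, hbZ⟩ := Cfg.line_nonempty hD'
    have hsb := hsh.2 b hbD'
    have haR := (Cfg.line_le hD).1 ha
    set c := a * b with hc
    have hcR : c ∈ (R : Subgroup G) := mul_mem haR hbR
    have haD' : a ∉ D' := fun ha' => haZ (by
      have h5 : a ∈ center G := (S.inf_le_center hD hD' hne ⟨ha, ha'⟩).2
      rw [mem_center_iff.1 h5 h, mul_inv_cancel_right, mul_inv_cancel]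
      exact one_mem _)
    have hcD : c ∉ D := fun hcD => hbZ
      (S.inf_le_center hD hD' hne ⟨(mul_mem_cancel_left ha).1 hcD, hbD'⟩).2
    have hcZ : c ∉ center G := fun hcZ => hcD ((Cfg.line_le hD).2 ⟨hcR, hcZ⟩)
    have hline : IsLine R M₀ ((R : Subgroup G) ⊓ cent c) := by
      refine ⟨c, hcR, hcZ, rfl, le_antisymm ?_ ?_⟩
      · exact S.pcard_eq c (S.hyp.hRN hcR) hcZ ▸ card_le_pcard (R.2.to_le inf_le_left) inf_le_right
      · set E := (R : Subgroup G) ⊓ cent c with hE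
        have hZE : (R : Subgroup G) ⊓ center G ≤ E := inf_le_inf_left _ (center_le_cent c)
        have h1 := Subgroup.relIndex_mul_relIndex (⊥ : Subgroup G) _ E bot_le hZE
        rw [relIndex_bot_left, relIndex_bot_left] at h1
        obtain ⟨k, hk⟩ := IsPGroup.iff_card.1 (R.2.to_le (inf_le_left : E ≤ _))
        obtain ⟨i, -, hi⟩ := (Nat.dvd_prime_pow hr.out).1 (hk ▸ Dvd.intro_left _ h1 :
          ((R : Subgroup G) ⊓ center G).relIndex E ∣ r ^ k)
        rw [← h1, hi, ← hM, mul_comm]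
        refine Nat.mul_le_mul_left _ (Nat.le_self_pow ?_ r)
        rintro rfl
        have h5 : E ≤ (R : Subgroup G) ⊓ center G := relIndex_eq_one.1 (by rw [hi, pow_zero])
        exact hcZ (mem_inf.1 (h5 (mem_inf.2 ⟨hcR, self_mem_cent c⟩))).2
    have hcE : c ∈ (R : Subgroup G) ⊓ cent c := mem_inf.2 ⟨hcR, self_mem_cent c⟩
    have h1 := mul_mem ((hfix _ hline).2 c hcE) (inv_mem hcE)
    have e : h * c * h⁻¹ * c⁻¹ = (h * b * h⁻¹ * b⁻¹) * (h * a * h⁻¹ * a⁻¹) := by
      rw [← mem_center_iff.1 hsb (h * a * h⁻¹ * a⁻¹), hc]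
      calc h * (a * b) * h⁻¹ * (a * b)⁻¹
          = (h * a * h⁻¹) * (h * b * h⁻¹ * b⁻¹) * a⁻¹ := by group
        _ = (h * a * h⁻¹ * a⁻¹) * (a * (h * b * h⁻¹ * b⁻¹) * a⁻¹) := by group
        _ = (h * a * h⁻¹ * a⁻¹) * (h * b * h⁻¹ * b⁻¹) := by
            rw [mem_center_iff.1 hsb a, mul_inv_cancel_right]
    rw [e] at h1
    have hbc : h * b * h⁻¹ * b⁻¹ ∈ (R : Subgroup G) ⊓ cent c :=
      mem_inf.2 ⟨mul_mem (hRconj b hbR) (inv_mem hbR), center_le_cent c hsb⟩
    have h2 := (mul_mem_cancel_left hbc).1 h1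
    refine haZ (S.inf_le_center hD hline (fun heq => hcD (heq.symm ▸ hcE))
      (mem_inf.2 ⟨?_, h2⟩)).2
    exact mul_mem ((hfix D hD).2 a ha) (inv_mem ha)
  intro hW'
  have h1 := Subgroup.relIndex_mul_relIndex (ker' N D') (shifts N D') (stab' N D') (hKΛ D')
    (fun u hu => hu.1)
  rw [hW'] at h1
  rcases hr.out.eq_one_or_self_of_dvd _ (Dvd.intro _ h1) with h2 | h2
  · have h3 : (ker' N D').relIndex (R : Subgroup G) ≤ (ker' N D').relIndex (shifts N D') :=
      relIndex_le_of_le_right (S.sylow_le_shifts hD' hD hne.symm)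
        (by rw [relIndex]; exact index_ne_zero_of_finite)
    have h4 : (ker' N D').relIndex (R : Subgroup G) ≠ 1 := fun h4 => by
      obtain ⟨d', hdD', hdR', hdZ'⟩ := Cfg.line_nonempty hD'
      have h5 : (R : Subgroup G) ≤ D' := fun u hu => by
        obtain ⟨k, hk⟩ := exists_orderOf_eq R.2 hu
        exact S.mem_line hD' (relIndex_eq_one.1 h4 hu) hk
      have h6 := S.relIndex_line hD'
      rw [relIndex_eq_one.2 h5] at h6
      exact hr.out.ne_one h6.symm
    have h7 : (ker' N D').relIndex (R : Subgroup G) ≠ 0 := by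
      rw [relIndex]; exact index_ne_zero_of_finite
    omega
  · rw [h2] at h1
    exact hh'.2 (relIndex_eq_one.1 (Nat.eq_of_mul_eq_mul_left hr.out.pos
      (h1.trans (mul_one r).symm)) hh'.1)

/-- The final count. -/
theorem Cfg.false (S : Cfg R N m M₀) : False := by
  classical
  letI := Fintype.ofFinite G
  letI := Fintype.ofFinite (Subgroup G)
  set n := Nat.card N with hn
  set z := Nat.card (center G ⊓ N : Subgroup G) with hz
  have hz1 : 0 < z := Nat.card_pos
  have hr2 := hr.out.two_le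
  let L : Finset (Subgroup G) := Finset.univ.filter (IsLine R M₀)
  let O : Subgroup G → Finset G := fun D => (orbit' N D).toFinset
  have hOc : ∀ D, (O D).card = (orbit' N D).ncard := fun D =>
    (Set.ncard_eq_toFinset_card' _).symm
  let NZ : Finset G := ((N : Set G) \ ((center G ⊓ N : Subgroup G) : Set G)).toFinset
  have hNZ : NZ.card + z = n := by
    have hzn : z ≤ n := Subgroup.card_le_of_le inf_le_right
    rw [← Set.ncard_eq_toFinset_card', Set.ncard_sdiff (inf_le_right : center G ⊓ N ≤ N),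
      ← Nat.card_coe_set_eq, ← Nat.card_coe_set_eq]
    exact Nat.sub_add_cancel hzn
  have hterm : ∀ D ∈ L, (ker' N D).relIndex (stab' N D) * (O D).card +
      z * ((stab' N D).relIndex N * (ker' N D).relIndex (stab' N D)) = n := by
    intro D hD
    have hz' : z ≤ Nat.card (ker' N D) := Subgroup.card_le_of_le (Cfg.center_le_ker D)
    rw [hOc, S.ncard_orbit (Finset.mem_filter.1 hD).2, hn, ← Cfg.stab_index (N := N) D]
    obtain ⟨e, he⟩ := Nat.exists_eq_add_of_le hz'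
    rw [he, Nat.add_sub_cancel_left]
    ring
  have hrW : ∀ D ∈ L, r ∣ (ker' N D).relIndex (stab' N D) ∧
      r ≤ (ker' N D).relIndex (stab' N D) := fun D hD =>
    ⟨S.dvd_stab (Finset.mem_filter.1 hD).2, Nat.le_of_dvd
      (Nat.pos_of_ne_zero (by rw [relIndex]; exact index_ne_zero_of_finite))
      (S.dvd_stab (Finset.mem_filter.1 hD).2)⟩
  have hidx : ∀ D : Subgroup G, 1 ≤ (stab' N D).relIndex N := fun D =>
    Nat.one_le_iff_ne_zero.2 (by rw [relIndex]; exact index_ne_zero_of_finite)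
  have hcover : ∀ s : Finset (Subgroup G), (∀ D ∈ L, ∃ D' ∈ s, orbit' N D = orbit' N D') →
      NZ.card ≤ ∑ D ∈ s, (O D).card := by
    intro s hs
    refine le_trans (Finset.card_le_card fun x hx => ?_) Finset.card_biUnion_le
    simp only [NZ, Set.mem_toFinset, Set.mem_sdiff, SetLike.mem_coe] at hx
    obtain ⟨D, hD, hxD⟩ := S.exists_orbit hx.1 fun h => hx.2 ⟨h, hx.1⟩
    obtain ⟨D', hD', he⟩ := hs D (Finset.mem_filter.2 ⟨Finset.mem_univ _, hD⟩)
    exact Finset.mem_biUnion.2 ⟨D', hD', Set.mem_toFinset.2 (he ▸ hxD)⟩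
  have hfew : ∀ s : Finset (Subgroup G), s ⊆ L →
      (∀ D ∈ L, ∃ D' ∈ s, orbit' N D = orbit' N D') → s.card ≤ r → False := by
    intro s hsL hs hsc
    have h1 : ∀ D ∈ s, r * (O D).card + r * z ≤ n := fun D hD => by
      refine le_of_le_of_eq (Nat.add_le_add (Nat.mul_le_mul_right _ (hrW D (hsL hD)).2) ?_)
        (hterm D (hsL hD))
      rw [mul_comm r z]
      exact Nat.mul_le_mul_left z ((hrW D (hsL hD)).2.trans (Nat.le_mul_of_pos_left _ (hidx D)))
    have h2 := Nat.mul_le_mul_left r (hcover s hs)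
    rw [Finset.mul_sum] at h2
    have h3 : ∑ D ∈ s, r * (O D).card + s.card * (r * z) ≤ s.card * n := by
      have := Finset.sum_le_sum h1
      rwa [Finset.sum_add_distrib, Finset.sum_const, Finset.sum_const, smul_eq_mul, smul_eq_mul]
        at this
    rcases s.eq_empty_or_nonempty with rfl | ⟨D, hD⟩
    · rw [Finset.sum_empty] at h2
      obtain ⟨u, huR, huZ⟩ := SetLike.not_le_iff_exists.1 S.notCentral
      obtain ⟨D, hD, -⟩ := S.exists_orbit (S.hyp.hRN huR) huZ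
      obtain ⟨D', hD', -⟩ := hs D (Finset.mem_filter.2 ⟨Finset.mem_univ _, hD⟩)
      exact Finset.notMem_empty D' hD'
    · have hc1 : 1 ≤ s.card := Finset.card_pos.2 ⟨D, hD⟩
      have hrn : r * z ≤ n := le_trans (Nat.le_add_left _ _) (h1 D hD)
      obtain ⟨e, he⟩ := Nat.exists_eq_add_of_le hrn
      obtain ⟨c, hc⟩ : ∃ c, r * z = z + c ∧ 0 < c := by
        refine ⟨r * z - z, ?_, ?_⟩ <;>
          have := Nat.mul_le_mul_right z hr2 <;> omega
      clear_value n
      subst he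
      have h4 : ∑ D ∈ s, r * (O D).card ≤ r * e :=
        le_trans (Nat.le_of_add_le_add_left (le_of_eq_of_le (add_comm _ _)
          (h3.trans_eq (mul_add _ _ _))))
          (Nat.mul_le_mul_right e hsc)
      have h5 : r * NZ.card ≤ r * e := h2.trans h4
      have h6 := Nat.le_of_mul_le_mul_left h5 hr.out.pos
      omega
  by_cases hbad : ∃ D₁ ∈ L, ∃ D₂ ∈ L, D₁ ≠ D₂ ∧
      ∃ k ∈ N, ∀ v, v ∈ ker' N D₂ ↔ k⁻¹ * v * k ∈ ker' N D₁
  · obtain ⟨D₁, hD₁, D₂, hD₂, hne, k, hk, hkiff⟩ := hbad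
    refine hfew (L.erase D₂) (Finset.erase_subset _ _) (fun D hD => ?_) ?_
    · by_cases h : D = D₂
      · exact ⟨D₁, Finset.mem_erase.2 ⟨hne, hD₁⟩, h ▸ orbit_eq_of_conj hk hkiff⟩
      · exact ⟨D, Finset.mem_erase.2 ⟨h, hD⟩, rfl⟩
    · rw [Finset.card_erase_of_mem hD₂]
      have := S.card_lines_le L (fun D hD => (Finset.mem_filter.1 hD).2)
        (Finset.one_lt_card.2 ⟨D₁, hD₁, D₂, hD₂, hne⟩)
      omega
  push Not at hbad
  by_cases hL : L.card ≤ r
  · exact hfew L (fun _ h => h) (fun D hD => ⟨D, hD, rfl⟩) hL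
  have hnc : ∀ E E' : Subgroup G, IsLine R M₀ E → IsLine R M₀ E' →
      (∃ k ∈ N, ∀ v, v ∈ ker' N E' ↔ k⁻¹ * v * k ∈ ker' N E) → E = E' := by
    intro E E' hE hE' ⟨k, hk, hiff⟩
    by_contra hne
    obtain ⟨v, hv⟩ := hbad E (Finset.mem_filter.2 ⟨Finset.mem_univ _, hE⟩) E'
      (Finset.mem_filter.2 ⟨Finset.mem_univ _, hE'⟩) hne k hk
    rcases hv with ⟨h1, h2⟩ | ⟨h1, h2⟩
    · exact h2 ((hiff v).1 h1)
    · exact h1 ((hiff v).2 h2)
  have hLc : L.card = r + 1 := by
    have := S.card_lines_le L (fun D hD => (Finset.mem_filter.1 hD).2) (by omega)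
    omega
  obtain ⟨D₀, hD₀⟩ : L.Nonempty := Finset.card_pos.1 (by omega)
  have hbig : ∀ D ∈ L, 2 * r * z ≤ Nat.card (ker' N D) := fun D hD =>
    S.ker_big (Finset.mem_filter.1 hD).2
  by_cases hW : ∀ D ∈ L, (ker' N D).relIndex (stab' N D) = r
  · -- all stabilisers minimal: the disjoint orbits overflow
    have h1 : ∀ D ∈ L, (2 * r - 1) * n ≤ 2 * r * (r * (O D).card) := by
      intro D hD
      have h2 := hterm D hD
      have h3 := Cfg.stab_index (N := N) D
      rw [hW D hD] at h2 h3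
      have h4 : z * ((stab' N D).relIndex N * r) * (2 * r) ≤ n :=
        le_of_eq_of_le (by ring) (h3 ▸ Nat.mul_le_mul_left _ (hbig D hD))
      obtain ⟨c, hc⟩ : ∃ c, 2 * r = c + 1 := ⟨2 * r - 1, by omega⟩
      rw [hc] at h4 ⊢
      rw [Nat.add_sub_cancel]
      generalize r * (O D).card = X at h2 ⊢
      generalize z * ((stab' N D).relIndex N * r) = Y at h2 h4
      rw [← h2] at h4 ⊢
      linarith
    have hdis : (L : Set (Subgroup G)).PairwiseDisjoint O := by
      intro D hD D' hD' hne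
      rw [Function.onFun, Finset.disjoint_left]
      intro x hx hx'
      exact hne (hnc D D' (Finset.mem_filter.1 hD).2 (Finset.mem_filter.1 hD').2
        (S.exists_conj_of_meet (Finset.mem_filter.1 hD).2 (Finset.mem_filter.1 hD').2
          (Set.mem_toFinset.1 hx) (Set.mem_toFinset.1 hx')))
    have hsub : L.biUnion O ⊆ NZ := by
      intro x hx
      obtain ⟨D, -, hxD⟩ := Finset.mem_biUnion.1 hx
      obtain ⟨u, hu, a, ha, haZ, rfl⟩ := Set.mem_toFinset.1 hxD
      simp only [NZ, Set.mem_toFinset, Set.mem_sdiff, SetLike.mem_coe]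
      refine ⟨Normal.conj_mem ‹_› a ha.2 u, fun h => haZ ?_⟩
      have := Normal.conj_mem (inferInstance : (center G).Normal) _ h.1 u⁻¹
      simpa [mul_assoc] using this
    have h2 := Finset.card_le_card hsub
    rw [Finset.card_biUnion hdis] at h2
    have h3 := Finset.sum_le_sum h1
    rw [Finset.sum_const, hLc, ← Finset.mul_sum, ← Finset.mul_sum, smul_eq_mul] at h3
    have h4 := h3.trans (Nat.mul_le_mul_left _ (Nat.mul_le_mul_left _ h2))
    obtain ⟨c, hc⟩ : ∃ c, r = c + 2 := ⟨r - 2, by omega⟩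
    subst hc
    rw [show 2 * (c + 2) - 1 = 2 * c + 3 by omega, ← hNZ] at h4
    nlinarith [Nat.zero_le (c * c * z), Nat.zero_le (c * z), Nat.zero_le (c * NZ.card)]
  · -- all stabilisers big: the orbits do not cover
    push Not at hW
    obtain ⟨D₁, hD₁, hW₁⟩ := hW
    have hWall : ∀ D ∈ L, 2 * r ≤ (ker' N D).relIndex (stab' N D) := by
      intro D hD
      have hne : (ker' N D).relIndex (stab' N D) ≠ r := by
        by_cases h : D = D₁
        · exact h ▸ hW₁
        · exact S.stab_big (Finset.mem_filter.1 hD₁).2 (Finset.mem_filter.1 hD).2 (Ne.symm h) hnc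
            hW₁
      obtain ⟨c, hc⟩ := (hrW D hD).1
      have h0 : (ker' N D).relIndex (stab' N D) ≠ 0 := by
        rw [relIndex]; exact index_ne_zero_of_finite
      rcases c with _ | _ | c
      · simp [hc] at h0
      · simp [hc] at hne
      · rw [hc, mul_comm 2 r]; exact Nat.mul_le_mul_left r (by omega)
    have h1 : ∀ D ∈ L, 2 * r * (O D).card ≤ n := fun D hD =>
      le_trans (Nat.mul_le_mul_right _ (hWall D hD)) (le_trans (Nat.le_add_right _ _) (hterm D hD).le)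
    have h2 : n ≥ 4 * r * r * z := by
      have h3 := Cfg.stab_index (N := N) D₀
      rw [ge_iff_le, hn, ← h3]
      exact le_of_eq_of_le (by ring) (Nat.mul_le_mul
        ((hWall D₀ hD₀).trans (Nat.le_mul_of_pos_left _ (hidx D₀))) (hbig D₀ hD₀))
    have h3 := Finset.sum_le_sum h1
    rw [Finset.sum_const, hLc, smul_eq_mul, ← Finset.mul_sum] at h3
    have h4 := (Nat.mul_le_mul_left (2 * r) (hcover L fun D hD => ⟨D, hD, rfl⟩)).trans h3
    have h5 : 2 * n ≤ r * n := Nat.mul_le_mul_right n hr2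
    have h6 : 2 * (r * z) ≤ r * r * z := by
      rw [mul_assoc r r z]; exact Nat.mul_le_mul_right _ hr2
    have h7 : 0 < r * z := Nat.mul_pos hr.out.pos hz1
    rw [← hNZ] at h2 h4 h5
    linarith

/-- **Main theorem.** -/
theorem isNilpotent (H : Hyp R N m) (hR : ¬ (R : Subgroup G) ≤ center G) : Group.IsNilpotent N := by
  by_cases hw : ∃ w ∈ (R : Subgroup G), (R : Subgroup G) ≤ cent w ∧ w ∉ center G
  · obtain ⟨w, h1, h2, h3⟩ := hw
    exact isNilpotent_of_mem_center_sylow H h1 h2 h3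
  push Not at hw
  by_cases hy : ∀ y ∈ N, (orderOf y).Coprime r → y ∈ center G
  · exact isNilpotent_of_coprime_central hy
  push Not at hy
  obtain ⟨y, hy, hyr, hyZ⟩ := hy
  obtain ⟨M₀, S⟩ := exists_cfg H hR hw hy hyZ hyr
  exact S.false.elim

end Cfsg.Agent.ClassSize.SylowSubset
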